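import Cfsg.Agent.Lib.Spor.CoOneInv.Data
import Cfsg.Agent.Lib.Spor.Leech.Co1Simple
import Cfsg.Agent.Lib.Spor.Fi22Eight.Reflect

/-!
The involution negating the base octad, the sublattice of vectors supported on the octad, and its reduction
modulo two onto the orthogonal space of plus type in dimension eight.
-/

set_option autoImplicit false

namespace CfsgLib.Spor.CoOneInv

open Cfsg CfsgLib.Spor CfsgLib.Spor.Leech CfsgLib.Spor.Fi22Eight

/-- The octad. -/
def oct : Finset GolayPt := pts baseOctad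

theorem oct_octad : oct ∈ octads := baseOctad_mem

theorem oct_supports : oct ∈ supports (golayCode : Set (GolayPt → ZMod 2)) := oct_octad.1

/-- The involution. -/
noncomputable def tau : Co0 := sgnAut oct_supports

/-- Its centralizer. -/
abbrev Cen : Subgroup Co0 := Subgroup.centralizer {tau}

/-- The vectors supported on the octad. -/
def sub8 : AddSubgroup leechLattice where
  carrier := {v | ∀ i, i ∉ oct → (v : GolayPt → ℤ) i = 0}
  zero_mem' := fun i _ => rfl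
  add_mem' := fun {a b} ha hb i hi => by
    show (a : GolayPt → ℤ) i + (b : GolayPt → ℤ) i = 0
    rw [ha i hi, hb i hi, add_zero]
  neg_mem' := fun {a} ha i hi => by
    show -(a : GolayPt → ℤ) i = 0
    rw [ha i hi, neg_zero]

theorem mem_sub8_iff {v : leechLattice} : v ∈ sub8 ↔ tau • v = -v := by
  constructor
  · intro h
    refine Subtype.ext (funext fun i => ?_)
    rw [tau, sgnAut_smul, AddSubgroup.coe_neg, Pi.neg_apply]
    split_ifs with hi
    · rfl
    · rw [h i hi, neg_zero]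
  · intro h i hi
    have := congrFun (congrArg Subtype.val h) i
    rw [tau, sgnAut_smul, if_neg hi, AddSubgroup.coe_neg, Pi.neg_apply] at this
    omega

theorem cen_comm (g : ↥Cen) : (g : Co0) * tau = tau * g := Subgroup.mem_centralizer_singleton_iff.1 g.2

theorem smul_sub8 (g : ↥Cen) {v : leechLattice} (hv : v ∈ sub8) : (g : Co0) • v ∈ sub8 := by
  rw [mem_sub8_iff, ← mul_smul, ← cen_comm, mul_smul, mem_sub8_iff.1 hv, co0_neg]

/-- The eight points. -/
def octPt (k : Fin 8) : GolayPt := idxPt ([0, 1, 2, 3, 5, 14, 17, 23].getD k.1 0)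

theorem octPt_spec : (∀ p : GolayPt, p ∈ oct ↔ ∃ k, octPt k = p) ∧ Function.Injective octPt := by
  refine ⟨by decide +kernel, ?_⟩
  unfold Function.Injective
  decide +kernel

theorem sum_oct (f : GolayPt → ℤ) (h : ∀ i, i ∉ oct → f i = 0) : ∑ i, f i = ∑ k, f (octPt k) := by
  rw [← Finset.sum_image (g := octPt) (fun a _ b _ e => octPt_spec.2 e)]
  refine (Finset.sum_subset (Finset.subset_univ _) fun i _ hi => h i fun hio => hi ?_).symm
  obtain ⟨k, rfl⟩ := (octPt_spec.1 i).1 hio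
  exact Finset.mem_image_of_mem _ (Finset.mem_univ k)

theorem oct_code_cases : ∀ S : Finset (Fin 8), codeTest (maskPts (S.image octPt)) = true → S = ∅ ∨ S = Finset.univ := by
  decide +kernel

theorem sub8_shape {v : leechLattice} (hv : v ∈ sub8) :
    (∀ k, (v : GolayPt → ℤ) (octPt k) % 2 = 0) ∧
    (∀ k, ((v : GolayPt → ℤ) (octPt k) - (v : GolayPt → ℤ) (octPt 0)) % 4 = 0) ∧
    (∑ k, (v : GolayPt → ℤ) (octPt k)) % 8 = 0 := by
  obtain ⟨hp, hd, hs⟩ := mem_iff.1 v.2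
  have hout : idxPt 4 ∉ oct := by decide +kernel
  have h0 : par (v : GolayPt → ℤ) = 0 := by
    have := hp (idxPt 4)
    rw [hv _ hout] at this
    omega
  have hev : ∀ i, (v : GolayPt → ℤ) i % 2 = 0 := fun i => by rw [hp i, h0]
  refine ⟨fun k => hev _, fun k => ?_, by rw [← sum_oct _ hv, hs, h0]; rfl⟩
  have hm := (mem_supports_iff_codeTest _).1 (mem_supports_support₂.2 hd)
  have hout0 : ∀ j, j ∉ oct → digit (v : GolayPt → ℤ) j = 0 := fun j hj => by simp [digit, hv j hj]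
  let S : Finset (Fin 8) := Finset.univ.filter fun k => digit (v : GolayPt → ℤ) (octPt k) ≠ 0
  have hS : support₂ (digit (v : GolayPt → ℤ)) = S.image octPt := by
    ext p
    simp only [support₂, S, Finset.mem_image, Finset.mem_filter, Finset.mem_univ, true_and]
    constructor
    · intro h
      obtain ⟨j, rfl⟩ := (octPt_spec.1 p).1 (by_contra fun hc => h (hout0 p hc))
      exact ⟨j, h, rfl⟩
    · rintro ⟨j, hj, rfl⟩; exact hj
  rw [hS] at hm
  have key : digit (v : GolayPt → ℤ) (octPt k) = digit (v : GolayPt → ℤ) (octPt 0) := by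
    have mem : ∀ j, digit (v : GolayPt → ℤ) (octPt j) ≠ 0 ↔ j ∈ S := fun j => by simp [S]
    have two : ∀ a b : ZMod 2, (a ≠ 0 ↔ b ≠ 0) → a = b := by decide
    refine two _ _ ?_
    rw [mem, mem]
    rcases oct_code_cases S hm with h | h <;> simp [h]
  have := hev (octPt k)
  have := hev (octPt 0)
  simp only [digit] at key
  rw [← sub_eq_zero, ← Int.cast_sub, zmod2_cast_eq_zero] at key
  omega

theorem dot_oct {v : leechLattice} (hv : v ∈ sub8) (w : GolayPt → ℤ) :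
    dotInt (v : GolayPt → ℤ) w = ∑ k, (v : GolayPt → ℤ) (octPt k) * w (octPt k) :=
  sum_oct _ fun i hi => by rw [hv i hi, zero_mul]

theorem dot_sixteen {v w : leechLattice} (hv : v ∈ sub8) (hw : w ∈ sub8) :
    (16 : ℤ) ∣ dotInt (v : GolayPt → ℤ) w := by
  obtain ⟨ve, vc, vs⟩ := sub8_shape hv
  obtain ⟨we, wc, ws⟩ := sub8_shape hw
  set a := fun k => (v : GolayPt → ℤ) (octPt k)
  set b := fun k => (w : GolayPt → ℤ) (octPt k)
  obtain ⟨e, he⟩ : ∃ e, a 0 = 2 * e := ⟨a 0 / 2, by have := ve 0; simp only [a]; omega⟩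
  obtain ⟨f, hf⟩ : ∃ f, b 0 = 2 * f := ⟨b 0 / 2, by have := we 0; simp only [b]; omega⟩
  have hx : ∀ k, ∃ x, a k = 2 * e + 4 * x := fun k =>
    ⟨(a k - 2 * e) / 4, by have := vc k; simp only [a] at he ⊢; omega⟩
  have hy : ∀ k, ∃ y, b k = 2 * f + 4 * y := fun k =>
    ⟨(b k - 2 * f) / 4, by have := wc k; simp only [b] at hf ⊢; omega⟩
  choose x hx using hx
  choose y hy using hy
  have sa : ∑ k, a k = 16 * e + 4 * ∑ k, x k := by
    simp only [hx, Finset.sum_add_distrib, ← Finset.mul_sum, Finset.sum_const, Finset.card_univ, Fintype.card_fin]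
    ring
  have sb : ∑ k, b k = 16 * f + 4 * ∑ k, y k := by
    simp only [hy, Finset.sum_add_distrib, ← Finset.mul_sum, Finset.sum_const, Finset.card_univ, Fintype.card_fin]
    ring
  obtain ⟨p, hp⟩ : (2 : ℤ) ∣ ∑ k, x k := Int.dvd_of_emod_eq_zero (by
    have : (∑ k, a k) % 8 = 0 := vs
    omega)
  obtain ⟨q, hq⟩ : (2 : ℤ) ∣ ∑ k, y k := Int.dvd_of_emod_eq_zero (by
    have : (∑ k, b k) % 8 = 0 := ws
    omega)
  refine ⟨2 * e * f + e * q + f * p + ∑ k, x k * y k, ?_⟩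
  rw [dot_oct hv]
  show ∑ k, a k * b k = _
  rw [Finset.sum_congr rfl fun k _ =>
    show a k * b k = 4 * e * f + (8 * e) * y k + (8 * f) * x k + 16 * (x k * y k) by rw [hx, hy]; ring]
  simp only [Finset.sum_add_distrib, ← Finset.mul_sum, Finset.sum_const, Finset.card_univ, Fintype.card_fin, hp, hq]
  ring

theorem sqNorm_sub8 {v : leechLattice} (hv : v ∈ sub8) : (32 : ℤ) ∣ sqNorm (v : GolayPt → ℤ) := by
  obtain ⟨ve, vc, vs⟩ := sub8_shape hv
  set a := fun k => (v : GolayPt → ℤ) (octPt k)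
  obtain ⟨e, he⟩ : ∃ e, a 0 = 2 * e := ⟨a 0 / 2, by have := ve 0; simp only [a]; omega⟩
  have hx : ∀ k, ∃ x, a k = 2 * e + 4 * x := fun k =>
    ⟨(a k - 2 * e) / 4, by have := vc k; simp only [a] at he ⊢; omega⟩
  choose x hx using hx
  have sa : ∑ k, a k = 16 * e + 4 * ∑ k, x k := by
    simp only [hx, Finset.sum_add_distrib, ← Finset.mul_sum, Finset.sum_const, Finset.card_univ, Fintype.card_fin]
    ring
  obtain ⟨p, hp⟩ : (2 : ℤ) ∣ ∑ k, x k := Int.dvd_of_emod_eq_zero (by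
    have : (∑ k, a k) % 8 = 0 := vs
    omega)
  obtain ⟨r, hr⟩ : (2 : ℤ) ∣ ∑ k, (x k * x k - x k) :=
    Finset.dvd_sum fun k _ => by
      obtain ⟨c, hc⟩ := Int.even_mul_succ_self (x k - 1)
      exact ⟨c, by linear_combination hc⟩
  rw [sqNorm, sum_oct _ fun i hi => by rw [hv i hi]; rfl]
  show (32 : ℤ) ∣ ∑ k, a k ^ 2
  rw [Finset.sum_congr rfl fun k _ =>
    show a k ^ 2 = 4 * e ^ 2 + (16 * e + 16) * x k + 16 * (x k * x k - x k) by rw [hx]; ring]
  simp only [Finset.sum_add_distrib, ← Finset.mul_sum, Finset.sum_const, Finset.card_univ, Fintype.card_fin, hp, hr]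
  exact ⟨e ^ 2 + (e + 1) * p + r, by ring⟩

/-! ### The reduction -/

/-- A vector from its coordinates. -/
def vecOf (l : List ℤ) : GolayPt → ℤ := fun p => l.getD (ptIdx p) 0

/-- The rows are in the sublattice. -/
def rowTest (l : List ℤ) : Bool :=
  leechTest (vecOf l) && decide (∀ p, p ∉ oct → vecOf l p = 0)

theorem rows_test : (∀ j : Fin 8, rowTest (rootRows.getD j.1 []) = true) ∧
    (∀ j : Fin 8, rowTest (liftRows.getD j.1 []) = true) := by
  refine ⟨by decide +kernel, by decide +kernel⟩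

theorem rowTest_spec {l : List ℤ} (h : rowTest l = true) :
    ∃ hl : vecOf l ∈ leechLattice, (⟨vecOf l, hl⟩ : leechLattice) ∈ sub8 := by
  simp only [rowTest, Bool.and_eq_true, decide_eq_true_eq] at h
  exact ⟨leechTest_spec h.1, h.2⟩

/-- The roots. -/
def rootV (j : Fin 8) : leechLattice := ⟨vecOf (rootRows.getD j.1 []), (rowTest_spec (rows_test.1 j)).1⟩

theorem rootV_sub8 (j : Fin 8) : rootV j ∈ sub8 := (rowTest_spec (rows_test.1 j)).2

/-- The number of a coordinate. -/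
def pos : Ix → ℕ
  | .inl i => i.1
  | .inr i => 4 + i.1

/-- The coordinates modulo two. -/
def red (x : GolayPt → ℤ) : Vec := fun u =>
  ∑ j : Fin 8, if (coefCodes.getD (pos u) 0).testBit j.1 then
    ((dotInt x (vecOf (rootRows.getD j.1 [])) / 16 : ℤ) : ZMod 2) else 0

theorem dotInt_add (x y z : GolayPt → ℤ) : dotInt (x + y) z = dotInt x z + dotInt y z := by
  simp only [dotInt, Pi.add_apply, add_mul, Finset.sum_add_distrib]

theorem red_add {v w : leechLattice} (hv : v ∈ sub8) :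
    red ((v + w : leechLattice) : GolayPt → ℤ) = red (v : GolayPt → ℤ) + red (w : GolayPt → ℤ) := by
  funext u
  simp only [red, Pi.add_apply, AddSubgroup.coe_add, ← Finset.sum_add_distrib]
  refine Finset.sum_congr rfl fun j _ => ?_
  split_ifs
  · have h16 : (16 : ℤ) ∣ dotInt (v : GolayPt → ℤ) (vecOf (rootRows.getD j.1 [])) :=
      dot_sixteen hv (rootV_sub8 j)
    rw [dotInt_add, Int.add_ediv_of_dvd_left h16]
    push_cast; rfl
  · rw [add_zero]

/-- The reduction. -/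
def redHom : sub8 →+ Vec := AddMonoidHom.mk' (fun v => red (v.1 : GolayPt → ℤ)) fun v _ => red_add v.2

theorem redHom_apply (v : sub8) : redHom v = red (v.1 : GolayPt → ℤ) := rfl

/-- The lifts. -/
def liftV (u : Ix) : sub8 :=
  ⟨⟨vecOf (liftRows.getD (pos u) []), (rowTest_spec (rows_test.2 ⟨pos u, by
    rcases u with i | i <;> simp only [pos] <;> omega⟩)).1⟩, (rowTest_spec (rows_test.2 ⟨pos u, by
    rcases u with i | i <;> simp only [pos] <;> omega⟩)).2⟩

theorem red_lift : ∀ u : Ix, red (vecOf (liftRows.getD (pos u) [])) = Pi.single u 1 := by decide +kernel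

theorem redHom_lift (u : Ix) : redHom (liftV u) = Pi.single u 1 := red_lift u

/-- A representative of a reduced vector. -/
def rep (x : Vec) : sub8 := ∑ u, (x u).val • liftV u

theorem redHom_rep (x : Vec) : redHom (rep x) = x := by
  rw [rep, map_sum]
  conv_rhs => rw [← Finset.univ_sum_single x]
  refine Finset.sum_congr rfl fun u _ => ?_
  rw [map_nsmul, redHom_lift, ← Pi.single_smul, nsmul_eq_mul, mul_one, ZMod.natCast_zmod_val]

theorem coef_indep : ∀ d : Fin 8 → ZMod 2,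
    (∀ u : Ix, (∑ j, if (coefCodes.getD (pos u) 0).testBit j.1 then d j else 0) = 0) → d = 0 := by
  decide +kernel

theorem kernel_dot {v : sub8} (h : redHom v = 0) (j : Fin 8) :
    (32 : ℤ) ∣ dotInt (v.1 : GolayPt → ℤ) (rootV j : GolayPt → ℤ) := by
  have h1 := coef_indep (fun j => ((dotInt (v.1 : GolayPt → ℤ) (rootV j : GolayPt → ℤ) / 16 : ℤ) : ZMod 2))
    fun u => congrFun h u
  have h2 := (zmod2_cast_eq_zero _).1 (congrFun h1 j)
  obtain ⟨c, hc⟩ := dot_sixteen v.2 (rootV_sub8 j)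
  rw [hc, Int.mul_ediv_cancel_left _ (by norm_num)] at h2
  exact ⟨c / 2, by omega⟩

theorem solve_eight (a0 a1 a2 a3 a4 a5 a6 a7 : ℤ)
    (h0 : 32 ∣ a0 * -2 + a1 * 2 + a2 * -2 + a3 * 2 + a4 * 2 + a5 * 2 + a6 * 2 + a7 * 2)
    (h1 : 32 ∣ 4 * (a0 + a1)) (h2 : 32 ∣ 4 * (a0 - a1)) (h3 : 32 ∣ 4 * (a2 - a0)) (h4 : 32 ∣ 4 * (a2 + a3))
    (h5 : 32 ∣ 4 * (a3 - a4)) (h6 : 32 ∣ 4 * (a4 - a5)) (h7 : 32 ∣ 4 * (a5 - a6))
    (hs : (a7 - a0) % 4 = 0) :
    (a0 % 4 = 0 ∧ (a1 - a0) % 8 = 0 ∧ (a2 - a0) % 8 = 0 ∧ (a3 - a0) % 8 = 0) ∧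
    ((a4 - a0) % 8 = 0 ∧ (a5 - a0) % 8 = 0 ∧ (a6 - a0) % 8 = 0 ∧ (a7 - a0) % 8 = 0) ∧
    (a0 + a1 + a2 + a3 + a4 + a5 + a6 + a7) % 16 = 0 := by
  have eight : ∀ x : ℤ, 32 ∣ 4 * x → x % 8 = 0 := fun x h => by omega
  have k1 := eight _ h1; have k2 := eight _ h2; have k3 := eight _ h3; have k4 := eight _ h4
  have k5 := eight _ h5; have k6 := eight _ h6; have k7 := eight _ h7
  clear h1 h2 h3 h4 h5 h6 h7 eight
  have base : ∀ x y : ℤ, (x + y) % 8 = 0 → (x - y) % 8 = 0 → x % 4 = 0 ∧ (y - x) % 8 = 0 := fun x y _ _ => by omega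
  have tr : ∀ x y z : ℤ, (x - z) % 8 = 0 → (x - y) % 8 = 0 → (y - z) % 8 = 0 := fun x y z _ _ => by omega
  have fl : ∀ x y z : ℤ, z % 4 = 0 → (x - z) % 8 = 0 → (x + y) % 8 = 0 → (y - z) % 8 = 0 := fun x y z _ _ _ => by omega
  obtain ⟨q0, q1⟩ := base _ _ k1 k2
  have q2 : (a2 - a0) % 8 = 0 := k3
  have q3 := fl _ _ _ q0 q2 k4
  have q4 := tr _ _ _ q3 k5
  have q5 := tr _ _ _ q4 k6
  have q6 := tr _ _ _ q5 k7
  clear k1 k2 k3 k4 k5 k6 k7
  obtain ⟨c, rfl⟩ := Int.dvd_of_emod_eq_zero q0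
  obtain ⟨t1, e1⟩ := Int.dvd_of_emod_eq_zero q1
  obtain ⟨t2, e2⟩ := Int.dvd_of_emod_eq_zero q2
  obtain ⟨t3, e3⟩ := Int.dvd_of_emod_eq_zero q3
  obtain ⟨t4, e4⟩ := Int.dvd_of_emod_eq_zero q4
  obtain ⟨t5, e5⟩ := Int.dvd_of_emod_eq_zero q5
  obtain ⟨t6, e6⟩ := Int.dvd_of_emod_eq_zero q6
  obtain ⟨w, hw⟩ := h0
  obtain rfl : a1 = 4 * c + 8 * t1 := by linear_combination e1
  obtain rfl : a2 = 4 * c + 8 * t2 := by linear_combination e2
  obtain rfl : a3 = 4 * c + 8 * t3 := by linear_combination e3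
  obtain rfl : a4 = 4 * c + 8 * t4 := by linear_combination e4
  obtain rfl : a5 = 4 * c + 8 * t5 := by linear_combination e5
  obtain rfl : a6 = 4 * c + 8 * t6 := by linear_combination e6
  obtain rfl : a7 = 16 * w - 12 * c - 8 * (t1 - t2 + t3 + t4 + t5 + t6) := by
    have h2 : 2 * a7 = 2 * (16 * w - 12 * c - 8 * (t1 - t2 + t3 + t4 + t5 + t6)) := by linear_combination hw
    omega
  refine ⟨⟨q0, q1, q2, q3⟩, ⟨q4, q5, q6, Int.emod_eq_zero_of_dvd ⟨2 * w - 2 * c - (t1 - t2 + t3 + t4 + t5 + t6), by ring⟩⟩,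
    Int.emod_eq_zero_of_dvd ⟨w + c + t2, by ring⟩⟩

theorem kernel_two {v : sub8} (h : redHom v = 0) : ∃ w : sub8, v = 2 • w := by
  obtain ⟨ve, vc, vs⟩ := sub8_shape v.2
  have hd := kernel_dot h
  have hsum : ∀ j : Fin 8, ∑ k, (v.1 : GolayPt → ℤ) (octPt k) *
      vecOf (rootRows.getD j.1 []) (octPt k) = dotInt (v.1 : GolayPt → ℤ) (rootV j : GolayPt → ℤ) :=
    fun j => (dot_oct v.2 _).symm
  have hrows : ∀ j k : Fin 8, vecOf (rootRows.getD j.1 []) (octPt k) =
      (([[-2, 2, -2, 2, 2, 2, 2, 2], [4, 4, 0, 0, 0, 0, 0, 0], [4, -4, 0, 0, 0, 0, 0, 0],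
        [-4, 0, 4, 0, 0, 0, 0, 0], [0, 0, -4, -4, 0, 0, 0, 0], [0, 0, 0, 4, -4, 0, 0, 0],
        [0, 0, 0, 0, 4, -4, 0, 0], [0, 0, 0, 0, 0, 4, -4, 0]] : List (List ℤ)).getD j.1 []).getD k.1 0 := by
    decide +kernel
  set a := fun k => (v.1 : GolayPt → ℤ) (octPt k) with ha
  have e : ∀ j : Fin 8, (32 : ℤ) ∣ ∑ k, a k * _ := fun j => by
    have := hd j
    rw [← hsum j] at this
    simpa only [hrows j] using this
  have e0 := e 0; have e1 := e 1; have e2 := e 2; have e3 := e 3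
  have e4 := e 4; have e5 := e 5; have e6 := e 6; have e7 := e 7
  simp only [Fin.sum_univ_eight, List.getD_cons_zero, List.getD_cons_succ, Fin.val_zero, Fin.val_one,
    Fin.val_two, show ((3 : Fin 8) : ℕ) = 3 from rfl, show ((4 : Fin 8) : ℕ) = 4 from rfl,
    show ((5 : Fin 8) : ℕ) = 5 from rfl, show ((6 : Fin 8) : ℕ) = 6 from rfl,
    show ((7 : Fin 8) : ℕ) = 7 from rfl] at e0 e1 e2 e3 e4 e5 e6 e7
  have to32 : ∀ x y : ℤ, x = y → (32 : ℤ) ∣ x → (32 : ℤ) ∣ y := fun x y h h' => h ▸ h'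
  obtain ⟨⟨q0, q1, q2, q3⟩, ⟨q4, q5, q6, q7⟩, qs⟩ := solve_eight (a 0) (a 1) (a 2) (a 3) (a 4) (a 5) (a 6) (a 7) e0
    (to32 _ _ (by ring) e1) (to32 _ _ (by ring) e2) (to32 _ _ (by ring) e3)
    (to32 _ _ (by ring) ((dvd_neg).2 e4)) (to32 _ _ (by ring) e5) (to32 _ _ (by ring) e6)
    (to32 _ _ (by ring) e7) (vc 7)
  simp only [ha] at q0 q1 q2 q3 q4 q5 q6 q7 qs
  have hall : ∀ k, (v.1 : GolayPt → ℤ) (octPt k) % 4 = 0 ∧
      (((v.1 : GolayPt → ℤ) (octPt k) - (v.1 : GolayPt → ℤ) (octPt 0)) % 8 = 0) := by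
    intro k; fin_cases k <;> simp <;> omega
  have hsum16 : (∑ k, (v.1 : GolayPt → ℤ) (octPt k)) % 16 = 0 := by
    rw [Fin.sum_univ_eight]; exact qs
  let x : GolayPt → ℤ := fun i => (v.1 : GolayPt → ℤ) i / 2
  have hx2 : ∀ i, (v.1 : GolayPt → ℤ) i = 2 * x i := fun i => by
    by_cases hi : i ∈ oct
    · obtain ⟨k, rfl⟩ := (octPt_spec.1 i).1 hi
      have := (hall k).1
      simp only [x]; omega
    · simp only [x, v.2 i hi]; rfl
  have hxo : ∀ i, i ∉ oct → x i = 0 := fun i hi => by simp only [x, v.2 i hi]; rfl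
  have hxev : ∀ i, x i % 2 = 0 := fun i => by
    by_cases hi : i ∈ oct
    · obtain ⟨k, rfl⟩ := (octPt_spec.1 i).1 hi
      have := (hall k).1
      simp only [x]; omega
    · rw [hxo i hi]; rfl
  have hxm : x ∈ leechLattice := by
    refine mem_iff.2 ⟨fun i => by rw [hxev, par, hxev], ?_, ?_⟩
    · by_cases h0 : x (octPt 0) % 4 = 0
      · convert zero_mem golayCode
        funext i
        rw [digit, Pi.zero_apply, zmod2_cast_eq_zero]
        by_cases hi : i ∈ oct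
        · obtain ⟨k, rfl⟩ := (octPt_spec.1 i).1 hi
          have := (hall k).2; have := (hall k).1; have := (hall 0).1
          simp only [x] at h0 ⊢; omega
        · rw [hxo i hi]; rfl
      · obtain ⟨u, hu, hus⟩ := oct_supports
        suffices hz : digit x = u by rw [hz]; exact hu
        funext i
        have hi' : i ∈ oct ↔ u i = 1 := by
          rw [← hus]
          simp only [support₂, Finset.mem_filter, Finset.mem_univ, true_and]
          generalize u i = a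
          revert a; decide
        by_cases hi : i ∈ oct
        · rw [hi'.1 hi]
          obtain ⟨k, rfl⟩ := (octPt_spec.1 i).1 hi
          have := (hall k).2; have := (hall k).1; have := (hall 0).1
          rw [digit, show (x (octPt k) / 2 : ℤ) = 1 + 2 * (x (octPt k) / 4) by simp only [x] at h0 ⊢; omega]
          push_cast
          rw [show (2 : ZMod 2) = 0 from rfl, zero_mul, add_zero]
        · have hu0 : u i = 0 := by
            have := hi'.not.1 hi
            generalize u i = a at this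
            revert a; decide
          simp [digit, hxo i hi, hu0]
    · rw [par, hxev, sum_oct _ hxo]
      have hs : ∑ k, (v.1 : GolayPt → ℤ) (octPt k) = 2 * ∑ k, x (octPt k) := by
        rw [Finset.mul_sum]; exact Finset.sum_congr rfl fun k _ => hx2 _
      omega
  refine ⟨⟨⟨x, hxm⟩, hxo⟩, ?_⟩
  refine Subtype.ext (Subtype.ext (funext fun i => ?_))
  simp only [AddSubgroup.coe_nsmul, Pi.smul_apply, nsmul_eq_mul, Nat.cast_ofNat]
  exact hx2 i

theorem exists_rep (v : sub8) : ∃ w : sub8, v = rep (redHom v) + 2 • w := by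
  obtain ⟨w, hw⟩ := kernel_two (v := v - rep (redHom v)) (by rw [map_sub, redHom_rep, sub_self])
  exact ⟨w, by rw [← hw, add_sub_cancel]⟩

end CfsgLib.Spor.CoOneInv
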