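import Cfsg.Agent.Lib.Spor.OctadGeom

/-!
The code words off the base octad and the permutations fixing the octad pointwise.
-/

set_option autoImplicit false
set_option maxRecDepth 100000

namespace CfsgLib.Spor.CoOneInv

open CfsgLib.Spor

/-- The code words off the octad. -/
def offWords : List ℕ := [0, 337856, 628112, 832080, 1161408, 1351424, 1584464, 1903248, 2141072, 2460752,
  2702848, 2890176, 3216208, 3421328, 3704512, 4038912, 4202192, 4536592, 4819776, 5024896, 5350928, 5538256,
  5780352, 6100032, 6337856, 6656640, 6889680, 7079696, 7409024, 7612992, 7903248, 8241104]

/-- The complement of the octad. -/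
def offMask : ℕ := 8241104

theorem offWords_eq : codeList.all (fun m => !(Nat.beq (Nat.land m baseOctad) 0) || offWords.elem m) = true ∧
    offWords.all (fun m => codeTest m && Nat.beq (Nat.land m baseOctad) 0 && Nat.blt m 16777216) = true ∧
    offWords.Nodup := by decide +kernel

theorem square_check : (offWords.all fun m => octadFixList.all fun s =>
    let d := Nat.xor m (permMask s m)
    Nat.beq d 0 || Nat.beq d offMask) = true := by decide +kernel

theorem offMask_fixed : (octadFixList.all fun s => Nat.beq (permMask s offMask) offMask) = true := by
  decide +kernel

theorem fix_check : (octadFixList.all fun s => (List.range 24).all (fun i => Nat.beq (permFn s i) i) ||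
    offWords.any fun m => !(Nat.beq (permMask s m) m)) = true := by decide +kernel

theorem word_check : (offWords.all fun m => Nat.beq m 0 || Nat.beq m offMask ||
    octadFixList.any fun s => !(Nat.beq (permMask s m) m)) = true := by decide +kernel

end CfsgLib.Spor.CoOneInv
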