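import Mathlib.Logic.Basic

/-!
Data found by a computer search: eight roots of the sublattice on the base octad, lifts of the unit vectors,
five automorphisms commuting with the sign change on the octad with their images, and words in them.
-/

set_option autoImplicit false

namespace CfsgLib.Spor.CoOneInv

/-- The roots, by coordinates. -/
def rootRows : List (List Int) := [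
  [-2, 2, -2, 2, 0, 2, 0, 0, 0, 0, 0, 0, 0, 0, 2, 0, 0, 2, 0, 0, 0, 0, 0, 2],
  [4, 4, 0, 0, 0, 0, 0, 0, 0, 0, 0, 0, 0, 0, 0, 0, 0, 0, 0, 0, 0, 0, 0, 0],
  [4, -4, 0, 0, 0, 0, 0, 0, 0, 0, 0, 0, 0, 0, 0, 0, 0, 0, 0, 0, 0, 0, 0, 0],
  [-4, 0, 4, 0, 0, 0, 0, 0, 0, 0, 0, 0, 0, 0, 0, 0, 0, 0, 0, 0, 0, 0, 0, 0],
  [0, 0, -4, -4, 0, 0, 0, 0, 0, 0, 0, 0, 0, 0, 0, 0, 0, 0, 0, 0, 0, 0, 0, 0],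
  [0, 0, 0, 4, 0, -4, 0, 0, 0, 0, 0, 0, 0, 0, 0, 0, 0, 0, 0, 0, 0, 0, 0, 0],
  [0, 0, 0, 0, 0, 4, 0, 0, 0, 0, 0, 0, 0, 0, -4, 0, 0, 0, 0, 0, 0, 0, 0, 0],
  [0, 0, 0, 0, 0, 0, 0, 0, 0, 0, 0, 0, 0, 0, 4, 0, 0, -4, 0, 0, 0, 0, 0, 0]]

/-- Lifts of the unit vectors. -/
def liftRows : List (List Int) := [
  [2, 2, 2, 2, 0, 2, 0, 0, 0, 0, 0, 0, 0, 0, 6, 0, 0, -2, 0, 0, 0, 0, 0, 2],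
  [2, 6, -2, 2, 0, 2, 0, 0, 0, 0, 0, 0, 0, 0, 2, 0, 0, 2, 0, 0, 0, 0, 0, 2],
  [0, 0, -4, -4, 0, 4, 0, 0, 0, 0, 0, 0, 0, 0, -4, 0, 0, 0, 0, 0, 0, 0, 0, 0],
  [4, 4, -4, -4, 0, 0, 0, 0, 0, 0, 0, 0, 0, 0, 0, 0, 0, 0, 0, 0, 0, 0, 0, 0],
  [4, 0, 4, 0, 0, 0, 0, 0, 0, 0, 0, 0, 0, 0, 4, 0, 0, -4, 0, 0, 0, 0, 0, 0],
  [-4, 0, 4, 0, 0, 0, 0, 0, 0, 0, 0, 0, 0, 0, 4, 0, 0, -4, 0, 0, 0, 0, 0, 0],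
  [0, 0, -4, -4, 0, 4, 0, 0, 0, 0, 0, 0, 0, 0, 0, 0, 0, -4, 0, 0, 0, 0, 0, 0],
  [4, 4, -4, 0, 0, -4, 0, 0, 0, 0, 0, 0, 0, 0, 0, 0, 0, 0, 0, 0, 0, 0, 0, 0]]

/-- The roots entering each coordinate. -/
def coefCodes : List Nat := [142, 136, 208, 50, 143, 3, 80, 18]

/-- The permutations. -/
def letterPerms : List Nat := [53396515858036535696787674165187651, 716157312642951450703725545706460192, 135901429441612402726500433044604951]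

/-- The sign change. -/
def letterSign : Nat := 5279

/-- The images of the lifts under the five automorphisms. -/
def imageRows : List (List (List Int)) := [
  [[-2, 2, 2, 2, 0, 2, 0, 0, 0, 0, 0, 0, 0, 0, 2, 0, 0, 2, 0, 0, 0, 0, 0, 6],
    [2, 2, 6, 2, 0, -2, 0, 0, 0, 0, 0, 0, 0, 0, 2, 0, 0, 2, 0, 0, 0, 0, 0, 2],
    [0, 0, 0, 0, 0, -4, 0, 0, 0, 0, 0, 0, 0, 0, 4, 0, 0, -4, 0, 0, 0, 0, 0, -4],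
    [0, 0, 4, 4, 0, -4, 0, 0, 0, 0, 0, 0, 0, 0, 0, 0, 0, -4, 0, 0, 0, 0, 0, 0],
    [-4, 0, 0, 4, 0, 4, 0, 0, 0, 0, 0, 0, 0, 0, 0, 0, 0, 0, 0, 0, 0, 0, 0, 4],
    [-4, 0, 0, -4, 0, 4, 0, 0, 0, 0, 0, 0, 0, 0, 0, 0, 0, 0, 0, 0, 0, 0, 0, 4],
    [-4, 0, 0, 0, 0, -4, 0, 0, 0, 0, 0, 0, 0, 0, 4, 0, 0, -4, 0, 0, 0, 0, 0, 0],
    [0, 0, 4, 4, 0, -4, 0, 0, 0, 0, 0, 0, 0, 0, -4, 0, 0, 0, 0, 0, 0, 0, 0, 0]],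
  [[2, 2, -2, 2, 0, 2, 0, 0, 0, 0, 0, 0, 0, 0, 6, 0, 0, 2, 0, 0, 0, 0, 0, 2],
    [2, 6, 2, 2, 0, -2, 0, 0, 0, 0, 0, 0, 0, 0, 2, 0, 0, 2, 0, 0, 0, 0, 0, 2],
    [0, 0, 0, 4, 0, -4, 0, 0, 0, 0, 0, 0, 0, 0, -4, 0, 0, 0, 0, 0, 0, 0, 0, -4],
    [4, 4, 0, 0, 0, -4, 0, 0, 0, 0, 0, 0, 0, 0, 0, 0, 0, 0, 0, 0, 0, 0, 0, -4],
    [4, 0, -4, 0, 0, 4, 0, 0, 0, 0, 0, 0, 0, 0, 4, 0, 0, 0, 0, 0, 0, 0, 0, 0],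
    [-4, 0, -4, 0, 0, 4, 0, 0, 0, 0, 0, 0, 0, 0, 4, 0, 0, 0, 0, 0, 0, 0, 0, 0],
    [0, 0, -4, 4, 0, -4, 0, 0, 0, 0, 0, 0, 0, 0, 0, 0, 0, 0, 0, 0, 0, 0, 0, -4],
    [4, 4, 0, -4, 0, -4, 0, 0, 0, 0, 0, 0, 0, 0, 0, 0, 0, 0, 0, 0, 0, 0, 0, 0]],
  [[2, 6, 2, 2, 0, 2, 0, 0, 0, 0, 0, 0, 0, 0, -2, 0, 0, 2, 0, 0, 0, 0, 0, 2],
    [6, 2, -2, 2, 0, 2, 0, 0, 0, 0, 0, 0, 0, 0, 2, 0, 0, 2, 0, 0, 0, 0, 0, 2],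
    [0, -4, -4, 0, 0, -4, 0, 0, 0, 0, 0, 0, 0, 0, 0, 0, 0, 4, 0, 0, 0, 0, 0, 0],
    [4, 0, -4, 0, 0, -4, 0, 0, 0, 0, 0, 0, 0, 0, 0, 0, 0, 0, 0, 0, 0, 0, 0, 4],
    [0, 4, 4, 0, 0, 0, 0, 0, 0, 0, 0, 0, 0, 0, -4, 0, 0, 0, 0, 0, 0, 0, 0, 4],
    [0, 4, 4, 0, 0, 0, 0, 0, 0, 0, 0, 0, 0, 0, -4, 0, 0, 0, 0, 0, 0, 0, 0, -4],
    [0, 0, -4, 0, 0, -4, 0, 0, 0, 0, 0, 0, 0, 0, -4, 0, 0, 4, 0, 0, 0, 0, 0, 0],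
    [4, 0, -4, 0, 0, 0, 0, 0, 0, 0, 0, 0, 0, 0, 0, 0, 0, -4, 0, 0, 0, 0, 0, 4]],
  [[-2, -2, -2, -2, 0, 2, 0, 0, 0, 0, 0, 0, 0, 0, 6, 0, 0, -2, 0, 0, 0, 0, 0, 2],
    [-2, -6, 2, -2, 0, 2, 0, 0, 0, 0, 0, 0, 0, 0, 2, 0, 0, 2, 0, 0, 0, 0, 0, 2],
    [0, 0, 4, 4, 0, 4, 0, 0, 0, 0, 0, 0, 0, 0, -4, 0, 0, 0, 0, 0, 0, 0, 0, 0],
    [-4, -4, 4, 4, 0, 0, 0, 0, 0, 0, 0, 0, 0, 0, 0, 0, 0, 0, 0, 0, 0, 0, 0, 0],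
    [-4, 0, -4, 0, 0, 0, 0, 0, 0, 0, 0, 0, 0, 0, 4, 0, 0, -4, 0, 0, 0, 0, 0, 0],
    [4, 0, -4, 0, 0, 0, 0, 0, 0, 0, 0, 0, 0, 0, 4, 0, 0, -4, 0, 0, 0, 0, 0, 0],
    [0, 0, 4, 4, 0, 4, 0, 0, 0, 0, 0, 0, 0, 0, 0, 0, 0, -4, 0, 0, 0, 0, 0, 0],
    [-4, -4, 4, 0, 0, -4, 0, 0, 0, 0, 0, 0, 0, 0, 0, 0, 0, 0, 0, 0, 0, 0, 0, 0]],
  [[-2, -2, -2, 2, 0, 2, 0, 0, 0, 0, 0, 0, 0, 0, -2, 0, 0, 6, 0, 0, 0, 0, 0, -2],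
    [-2, 2, -6, 2, 0, 2, 0, 0, 0, 0, 0, 0, 0, 0, 2, 0, 0, 2, 0, 0, 0, 0, 0, -2],
    [2, 2, -2, 2, 0, -6, 0, 0, 0, 0, 0, 0, 0, 0, 2, 0, 0, -2, 0, 0, 0, 0, 0, 2],
    [2, 2, -6, 2, 0, -2, 0, 0, 0, 0, 0, 0, 0, 0, -2, 0, 0, -2, 0, 0, 0, 0, 0, -2],
    [0, -4, 0, 0, 0, 0, 0, 0, 0, 0, 0, 0, 0, 0, -4, 0, 0, 4, 0, 0, 0, 0, 0, -4],
    [-4, 0, 4, 0, 0, 0, 0, 0, 0, 0, 0, 0, 0, 0, -4, 0, 0, 4, 0, 0, 0, 0, 0, 0],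
    [2, 2, -2, 2, 0, -6, 0, 0, 0, 0, 0, 0, 0, 0, -2, 0, 0, 2, 0, 0, 0, 0, 0, 2],
    [2, 2, -6, -2, 0, 2, 0, 0, 0, 0, 0, 0, 0, 0, -2, 0, 0, -2, 0, 0, 0, 0, 0, -2]]]

/-- Their matrices, by packed columns. -/
def columns : List (List Nat) := [
  [206, 230, 56, 112, 51, 3, 179, 52],
  [249, 161, 235, 111, 75, 123, 87, 171],
  [190, 33, 44, 40, 36, 20, 215, 115],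
  [9, 10, 4, 8, 16, 32, 64, 176],
  [205, 206, 189, 125, 220, 32, 249, 245]]

/-- Words for the products of a reflection with the first one. -/
def pairWords : List (List Nat) := [
  [],
  [0, 4, 1, 0, 2, 3, 0, 1, 3, 4, 3, 0],
  [0, 1, 4, 2, 4, 1, 0, 2, 1, 2, 0, 1],
  [2, 2, 4, 2, 2, 2, 4, 2, 2],
  [4, 3, 1, 0, 2, 4, 2, 0, 1, 3, 4],
  [3, 4, 0, 2, 2, 4, 2, 3, 1, 2, 2],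
  [0, 0, 4, 1, 1, 4, 2, 2, 1, 0, 1, 1],
  [3, 4, 2, 2, 1, 2, 0, 2, 2, 4, 3]]

end CfsgLib.Spor.CoOneInv
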