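import Cfsg.Agent.Lib.Spor.CoOneInv.Basic

/-!
The action of the centralizer on the reduced sublattice, and five of its elements.
-/

set_option autoImplicit false

namespace CfsgLib.Spor.CoOneInv

open Cfsg CfsgLib.Spor CfsgLib.Spor.Leech CfsgLib.Spor.Fi22Eight Matrix
open scoped Pointwise

/-- The action on the sublattice. -/
noncomputable def act (g : ↥Cen) : sub8 →+ sub8 :=
  AddMonoidHom.mk' (fun v => ⟨(g : Co0) • v.1, smul_sub8 g v.2⟩) fun v w => Subtype.ext (co0_add _ v.1 w.1)

theorem act_apply (g : ↥Cen) (v : sub8) : ((act g v : sub8) : leechLattice) = (g : Co0) • v.1 := rfl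

theorem act_mul (g h : ↥Cen) (v : sub8) : act (g * h) v = act g (act h v) := Subtype.ext (mul_smul _ _ _)

theorem act_one (v : sub8) : act 1 v = v := Subtype.ext (one_smul _ _)

/-- The matrix of an element. -/
noncomputable def redMat (g : ↥Cen) : Matrix Ix Ix (ZMod 2) := Matrix.of fun i k => redHom (act g (liftV k)) i

theorem two_vec (x : Vec) : 2 • x = 0 := by
  funext u
  rw [Pi.smul_apply, Pi.zero_apply, nsmul_eq_mul, show ((2 : ℕ) : ZMod 2) = 0 from rfl, zero_mul]

theorem redMat_spec (g : ↥Cen) (v : sub8) : redMat g *ᵥ redHom v = redHom (act g v) := by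
  obtain ⟨w, hw⟩ := exists_rep v
  have hl : redHom (act g v) = redHom (act g (rep (redHom v))) := by
    conv_lhs => rw [hw]
    rw [map_add, map_add, map_nsmul, map_nsmul, two_vec, add_zero]
  rw [hl, rep, map_sum, map_sum]
  funext i
  rw [Matrix.mulVec, dotProduct, Finset.sum_apply]
  refine Finset.sum_congr rfl fun k _ => ?_
  rw [map_nsmul, map_nsmul, Pi.smul_apply, nsmul_eq_mul, ZMod.natCast_zmod_val, mul_comm]
  rfl

theorem redMat_single (g : ↥Cen) (u : Ix) : redMat g *ᵥ Pi.single u 1 = redHom (act g (liftV u)) := by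
  rw [← redHom_lift u, redMat_spec]

theorem redMat_mul (g h : ↥Cen) : redMat (g * h) = redMat g * redMat h := by
  refine Matrix.ext_of_mulVec_single fun u => ?_
  rw [← mulVec_mulVec, redMat_single, redMat_single, redMat_spec, act_mul]

theorem redMat_one : redMat 1 = 1 := by
  refine Matrix.ext_of_mulVec_single fun u => ?_
  rw [redMat_single, act_one, redHom_lift, one_mulVec]

theorem qf_check : ∀ x : Vec,
    qf x = ((sqNorm (fun p : GolayPt => ∑ u, ((x u).val : ℤ) * vecOf (liftRows.getD (pos u) []) p) / 32 : ℤ) : ZMod 2) := by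
  decide +kernel

theorem rep_coe (x : Vec) : ((rep x : sub8) : leechLattice).1 =
    fun p => ∑ u, ((x u).val : ℤ) * vecOf (liftRows.getD (pos u) []) p := by
  funext p
  rw [rep, AddSubgroup.val_finsetSum, AddSubgroup.val_finsetSum, Finset.sum_apply]
  refine Finset.sum_congr rfl fun u _ => ?_
  rw [AddSubgroup.coe_nsmul, AddSubgroup.coe_nsmul, Pi.smul_apply, nsmul_eq_mul]
  rfl

/-- The form is half the norm. -/
theorem qf_red (v : sub8) : qf (redHom v) = ((sqNorm (v.1 : GolayPt → ℤ) / 32 : ℤ) : ZMod 2) := by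
  obtain ⟨w, hw⟩ := exists_rep v
  have hc : (v.1 : GolayPt → ℤ) = ((rep (redHom v) : sub8) : leechLattice).1 + 2 • (w.1 : GolayPt → ℤ) := by
    conv_lhs => rw [hw]
    rfl
  rw [qf_check, ← rep_coe, ← sub_eq_zero, ← Int.cast_sub, zmod2_cast_eq_zero, hc, sqNorm_add, sqNorm_two_nsmul]
  obtain ⟨a, ha⟩ := sqNorm_sub8 (rep (redHom v)).2
  obtain ⟨b, hb⟩ := sqNorm_sub8 w.2
  obtain ⟨c, hd⟩ := dot_sixteen (rep (redHom v)).2 w.2
  have he : dotInt ((rep (redHom v) : sub8) : leechLattice).1 (2 • (w.1 : GolayPt → ℤ)) = 32 * c := by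
    rw [show (32 : ℤ) * c = 2 * (16 * c) by ring, ← hd, dotInt, dotInt, Finset.mul_sum]
    refine Finset.sum_congr rfl fun i _ => ?_
    simp only [Pi.smul_apply, nsmul_eq_mul, Nat.cast_ofNat]
    ring
  rw [ha, hb, he]
  omega

/-- The homomorphism. -/
noncomputable def phi : ↥Cen →* Iso8 :=
  MonoidHom.mk' (fun g => ⟨⟨redMat g, redMat g⁻¹, by rw [← redMat_mul, mul_inv_cancel, redMat_one],
      by rw [← redMat_mul, inv_mul_cancel, redMat_one]⟩, by
    refine CfsgLib.Perm.Trans.Quad.mem_iso.2 fun x => ?_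
    show qf (redMat g *ᵥ x) = qf x
    conv_lhs => rw [← redHom_rep x, redMat_spec, qf_red, act_apply, co0_norm]
    conv_rhs => rw [← redHom_rep x, qf_red]⟩)
    fun g h => Subtype.ext (Units.ext (redMat_mul g h))

theorem mat_phi (g : ↥Cen) : mat (phi g) = redMat g := rfl

/-! ### Five elements -/

theorem perm_mem : ∀ j : Fin 3, isM24Code (letterPerms.getD j.1 0) = true ∧
    permMask (letterPerms.getD j.1 0) baseOctad = baseOctad := by decide +kernel

/-- A permutation of the list. -/
noncomputable def permEl (j : Fin 3) : Co0 := prmAut (permOf_mem_M24 (perm_mem j).1)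

theorem sign_test : codeTest letterSign = true := by decide +kernel

/-- The sign change of the list. -/
noncomputable def signEl : Co0 := sgnAut (pts_supports sign_test)

theorem perm_comm (j : Fin 3) : permEl j * tau = tau * permEl j := by
  have h : prmAut (permOf_mem_M24 (perm_mem j).1) * sgnAut oct_supports * (prmAut (permOf_mem_M24 (perm_mem j).1))⁻¹ =
      sgnAut oct_supports := by
    rw [prmAut_conj]
    refine sgnAut_congr ?_
    rw [oct, smul_pts (isPermCode_of_isM24Code (perm_mem j).1), (perm_mem j).2]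
  exact mul_inv_eq_iff_eq_mul.1 h

theorem tetrad_oct : ∀ i, ∀ j ∈ pts (tetradMask i), (j ∈ oct ↔ i ∈ oct) := by decide +kernel

theorem xi_comm : xiAut * tau = tau * xiAut := co0_eq fun v i => by
  rw [mul_smul, mul_smul, xiAut_smul, tau, sgnAut_smul, xiAut_smul]
  have hs : ∑ j ∈ pts (tetradMask i), ((sgnAut oct_supports • v : leechLattice) : GolayPt → ℤ) j =
      if i ∈ oct then -∑ j ∈ pts (tetradMask i), (v : GolayPt → ℤ) j else ∑ j ∈ pts (tetradMask i), (v : GolayPt → ℤ) j := by
    split_ifs with hi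
    · rw [← Finset.sum_neg_distrib]
      exact Finset.sum_congr rfl fun j hj => by rw [sgnAut_smul, if_pos ((tetrad_oct i j hj).2 hi)]
    · exact Finset.sum_congr rfl fun j hj => by rw [sgnAut_smul, if_neg ((tetrad_oct i j hj).not.2 hi)]
  have h2 := (leech_le_xiDom v.2).1 i
  simp only [xiVec, xiTwo] at h2 ⊢
  rw [hs, sgnAut_smul]
  split_ifs at h2 ⊢ <;> omega

/-- The five elements. -/
noncomputable def letter : Fin 5 → ↥Cen
  | ⟨0, _⟩ => ⟨permEl 0, Subgroup.mem_centralizer_singleton_iff.2 (perm_comm 0)⟩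
  | ⟨1, _⟩ => ⟨permEl 1, Subgroup.mem_centralizer_singleton_iff.2 (perm_comm 1)⟩
  | ⟨2, _⟩ => ⟨permEl 2, Subgroup.mem_centralizer_singleton_iff.2 (perm_comm 2)⟩
  | ⟨3, _⟩ => ⟨signEl, Subgroup.mem_centralizer_singleton_iff.2 (sgnAut_comm _ _)⟩
  | ⟨4, _⟩ => ⟨xiAut, Subgroup.mem_centralizer_singleton_iff.2 xi_comm⟩

/-- An image of a lift. -/
def img (l u : ℕ) : GolayPt → ℤ := vecOf ((imageRows.getD l []).getD u [])

theorem img_perm : ∀ j : Fin 3, ∀ u : Fin 8, ∀ p : GolayPt,
    img j.1 u.1 (fnPt (letterPerms.getD j.1 0) p) = vecOf (liftRows.getD u.1 []) p := by decide +kernel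

theorem img_sign : ∀ u : Fin 8, ∀ p : GolayPt,
    img 3 u.1 p = if p ∈ pts letterSign then -vecOf (liftRows.getD u.1 []) p else vecOf (liftRows.getD u.1 []) p := by
  decide +kernel

theorem img_xi : ∀ u : Fin 8, ∀ p : GolayPt, img 4 u.1 p = xiVec (vecOf (liftRows.getD u.1 [])) p := by decide +kernel

theorem pos_lt (u : Ix) : pos u < 8 := by rcases u with i | i <;> simp only [pos] <;> omega

theorem perm_image (j : Fin 3) (u : Ix) :
    ((permEl j • (liftV u).1 : leechLattice) : GolayPt → ℤ) = img j.1 (pos u) := by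
  have hp := isPermCode_of_isM24Code (perm_mem j).1
  funext p
  obtain ⟨q, rfl⟩ := (permOf (letterPerms.getD j.1 0)).surjective p
  rw [permEl, prmAut_smul, Equiv.symm_apply_apply, permOf_apply hp]
  exact (img_perm j ⟨pos u, pos_lt u⟩ q).symm

theorem letter_image : ∀ (l : Fin 5) (u : Ix),
    (((letter l : Co0) • (liftV u).1 : leechLattice) : GolayPt → ℤ) = img l.1 (pos u)
  | ⟨0, _⟩, u => perm_image 0 u
  | ⟨1, _⟩, u => perm_image 1 u
  | ⟨2, _⟩, u => perm_image 2 u
  | ⟨3, _⟩, u => funext fun p => by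
    show ((signEl • (liftV u).1 : leechLattice) : GolayPt → ℤ) p = _
    rw [signEl, sgnAut_smul]
    exact (img_sign ⟨pos u, pos_lt u⟩ p).symm
  | ⟨4, _⟩, u => funext fun p => by
    show ((xiAut • (liftV u).1 : leechLattice) : GolayPt → ℤ) p = _
    rw [xiAut_smul]
    exact (img_xi ⟨pos u, pos_lt u⟩ p).symm

/-- Packed columns applied to a packed vector. -/
def appC : List ℕ → ℕ → ℕ
  | [], _ => 0
  | c :: cs, n => Nat.xor (if n % 2 = 1 then c else 0) (appC cs (n / 2))

theorem col_check : ∀ l : Fin 5, ∀ u : Ix, red (img l.1 (pos u)) = dec ((columns.getD l.1 []).getD (pos u) 0) := by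
  decide +kernel

theorem app_check : ∀ l : Fin 5, ∀ n : Fin 256,
    Matrix.of (fun i k : Ix => dec ((columns.getD l.1 []).getD (pos k) 0) i) *ᵥ dec n.1 =
      dec (appC (columns.getD l.1 []) n.1) := by decide +kernel

theorem letter_mat (l : Fin 5) {n : ℕ} (hn : n < 256) :
    mat (phi (letter l)) *ᵥ dec n = dec (appC (columns.getD l.1 []) n) := by
  have e : mat (phi (letter l)) = Matrix.of (fun i k : Ix => dec ((columns.getD l.1 []).getD (pos k) 0) i) := by
    ext i k
    rw [mat_phi, redMat, Matrix.of_apply, Matrix.of_apply, redHom_apply, act_apply, letter_image, col_check]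
  rw [e]
  exact app_check l ⟨n, hn⟩

end CfsgLib.Spor.CoOneInv
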