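import Cfsg.Agent.Lib.Spor.CoOneInv.Hom
import Cfsg.Agent.Lib.Spor.OctadAction

/-!
The centralizer induces exactly the simple subgroup of the isometries of the reduced sublattice.
-/

set_option autoImplicit false

namespace CfsgLib.Spor.CoOneInv

open Cfsg CfsgLib.Spor CfsgLib.Spor.Leech CfsgLib.Spor.Fi22Eight CfsgLib.Spor.TC Matrix
open scoped Pointwise

/-- Letters from numbers. -/
noncomputable def letterN (l : ℕ) : ↥Cen := if h : l < 5 then letter ⟨l, h⟩ else 1

/-- A word applied to a packed vector. -/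
def wApp : List ℕ → ℕ → ℕ
  | [], n => n
  | l :: w, n => enc (dec (appC (columns.getD l []) (wApp w n)))

theorem wApp_lt : ∀ (w : List ℕ) {n : ℕ}, n < 256 → wApp w n < 256
  | [], _, h => h
  | _ :: _, _, _ => enc_lt _

theorem word_mat : ∀ (w : List ℕ), (∀ l ∈ w, l < 5) → ∀ {n : ℕ}, n < 256 →
    mat (phi (w.map letterN).prod) *ᵥ dec n = dec (wApp w n)
  | [], _, n, _ => by
    rw [List.map_nil, List.prod_nil, map_one]
    exact one_mulVec _
  | l :: w, h, n, hn => by
    rw [List.map_cons, List.prod_cons, map_mul,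
      show mat (phi (letterN l) * phi (w.map letterN).prod) = mat (phi (letterN l)) * mat (phi (w.map letterN).prod) from rfl,
      ← mulVec_mulVec, word_mat w (fun x hx => h x (List.mem_cons_of_mem _ hx)) hn,
      letterN, dif_pos (h l List.mem_cons_self), letter_mat _ (wApp_lt w hn), wApp, dec_enc]

theorem words_check : ∀ i : Fin 8, (∀ l ∈ pairWords.getD i.1 [], l < 5) ∧
    units.all (fun n => Nat.blt n 256 && Nat.beq (wApp (pairWords.getD i.1 []) n)
      (if i.1 = 0 then n else wordC [i.1, 0] n)) = true := by decide +kernel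

theorem pair_mem (i : Fin 8) : gen i * gen 0 ∈ phi.range := by
  obtain ⟨hl, hu⟩ := words_check i
  by_cases h0 : i.1 = 0
  · rw [h0, gen_sq]; exact one_mem _
  · refine ⟨((pairWords.getD i.1 []).map letterN).prod, eq_of_units fun n hn => ?_⟩
    have h := List.all_eq_true.1 hu n hn
    rw [if_neg h0, Bool.and_eq_true] at h
    rw [word_mat _ hl (Nat.le_of_ble_eq_true h.1), Nat.eq_of_beq_eq_true h.2, ← wordV_dec,
      ← ev_gen_mulVec (by simp [i.2]) (dec n)]
    simp [ev]

theorem pair_mem' {a b : ℕ} (ha : a < 8) (hb : b < 8) : gen a * gen b ∈ phi.range := by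
  have e : gen a * gen b = (gen a * gen 0) * (gen b * gen 0)⁻¹ := by
    rw [_root_.mul_inv_rev, inv_eq_of_mul_eq_one_right (gen_sq 0), inv_eq_of_mul_eq_one_right (gen_sq b)]
    rw [show gen a * gen 0 * (gen 0 * gen b) = gen a * (gen 0 * gen 0) * gen b by group, gen_sq, mul_one]
  rw [e]
  exact mul_mem (pair_mem ⟨a, ha⟩) (inv_mem (pair_mem ⟨b, hb⟩))

theorem ev_gen_mem : ∀ w : List ℕ, (∀ x ∈ w, x < 8) → w.length % 2 = 0 → ev gen w ∈ phi.range
  | [], _, _ => one_mem _
  | [a], _, h => by simp at h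
  | a :: b :: w, hw, h => by
    rw [ev_cons, ev_cons, ← mul_assoc]
    exact mul_mem (pair_mem' (hw a (by simp)) (hw b (by simp)))
      (ev_gen_mem w (fun x hx => hw x (by simp [hx])) (by simp at h; omega))

theorem exists_word (e : WE) : ∃ w : List ℕ, (∀ x ∈ w, x < 8) ∧ ev sg w = e := by
  have he : e ∈ Subgroup.closure (sg '' Set.Iio 8) := closure_sg ▸ Subgroup.mem_top e
  induction he using Subgroup.closure_induction_left with
  | one => exact ⟨[], by simp, rfl⟩
  | mul_left x hx y _ ih =>
    obtain ⟨i, hi, rfl⟩ := hx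
    obtain ⟨w, hw, rfl⟩ := ih
    exact ⟨i :: w, by simpa using And.intro hi hw, ev_cons ..⟩
  | inv_mul_cancel x hx y _ ih =>
    obtain ⟨i, hi, rfl⟩ := hx
    obtain ⟨w, hw, rfl⟩ := ih
    exact ⟨i :: w, by simpa using And.intro hi hw, by rw [ev_cons, inv_eq_of_mul_eq_one_right (sg_sq i)]⟩

theorem om_le : Om ≤ phi.range := by
  rw [← card_psi_even.1]
  rintro _ ⟨e, he, rfl⟩
  obtain ⟨w, hw, rfl⟩ := exists_word e
  have hlen : (Multiplicative.ofAdd (w.length : ZMod 2) : Multiplicative (ZMod 2)) = 1 := by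
    rw [← sign_ev hw]; exact he
  rw [psi, homE_ev gen gen_rel hw]
  refine ev_gen_mem w hw ?_
  have : (w.length : ZMod 2) = 0 := hlen
  rwa [ZMod.natCast_eq_zero_iff_even, Nat.even_iff] at this

/-! ### Elements permuting the short vectors on pairs of points -/

/-- A root on two points. -/
def pairVec (i k : Fin 8) (b : Bool) : GolayPt → ℤ :=
  Pi.single (octPt i) 4 + Pi.single (octPt k) (bif b then 4 else -4)

theorem pair_check : ∀ i k : Fin 8, ∀ b : Bool, i ≠ k →
    leechTest (pairVec i k b) = true ∧ (∀ p, p ∉ oct → pairVec i k b p = 0) ∧ sqNorm (pairVec i k b) = 32 := by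
  decide +kernel

/-- The root as an element of the sublattice. -/
def pairRoot {i k : Fin 8} (b : Bool) (h : i ≠ k) : sub8 :=
  ⟨⟨pairVec i k b, leechTest_spec (pair_check i k b h).1⟩, (pair_check i k b h).2.1⟩

theorem congr_short {v w : sub8} (hv : sqNorm (v.1 : GolayPt → ℤ) = 32) (hw : sqNorm (w.1 : GolayPt → ℤ) = 32)
    (h : redHom v = redHom w) : v = w ∨ v = -w := by
  by_cases he : v = w
  · exact Or.inl he
  obtain ⟨z, hz⟩ := kernel_two (v := v - w) (by rw [map_sub, h, sub_self])
  rcases short_congr (x := (v.1 : GolayPt → ℤ)) w.1.2 (fun e => he (Subtype.ext (Subtype.ext e)))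
    (by omega) (by omega) ⟨_, z.1.2, congrArg (fun a : sub8 => (a.1 : GolayPt → ℤ)) hz⟩ with h' | ⟨h', -, -⟩
  · exact Or.inr (Subtype.ext (Subtype.ext h'))
  · omega

theorem eight_split (i k : Fin 8) (h : i ≠ k) :
    eight (octPt i) = (pairRoot true h).1 + (pairRoot false h).1 := by
  refine Subtype.ext (funext fun p => ?_)
  simp only [eight, pairRoot, pairVec, AddSubgroup.coe_add, Pi.add_apply, cond_true, cond_false, Pi.single_apply]
  split_ifs <;> omega

theorem eight_eq_iff {a b : GolayPt} (h : eight a = eight b ∨ eight a = -eight b) : a = b := by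
  rcases h with h | h
  · exact eight_injective h
  · by_contra hne
    have := congrFun (congrArg Subtype.val h) a
    simp [eight, hne] at this

theorem three_points : ∀ i : Fin 8, ∃ k k' : Fin 8, i ≠ k ∧ i ≠ k' ∧ k ≠ k' := by decide

/-- An element permuting the pairs as a permutation of the eight points is monomial and extends it. -/
theorem mono_of_pairs (g : ↥Cen) (t : Equiv.Perm (Fin 8))
    (H : ∀ (i k : Fin 8) (b : Bool) (h : i ≠ k),
      act g (pairRoot b h) = pairRoot b (t.injective.ne h) ∨ act g (pairRoot b h) = -pairRoot b (t.injective.ne h)) :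
    ∃ σ, ∃ hσ : σ ∈ M24, ∃ c, ∃ hc : c ∈ supports (golayCode : Set (GolayPt → ZMod 2)),
      (g : Co0) = monoAut hσ hc ∧ ∀ i, σ (octPt i) = octPt (t i) := by
  have key : ∀ i k, i ≠ k → ∃ m, (m = t i ∨ m = t k) ∧
      ((g : Co0) • eight (octPt i) = eight (octPt m) ∨ (g : Co0) • eight (octPt i) = -eight (octPt m)) := by
    intro i k h
    have a := (H i k true h).imp (congrArg Subtype.val) (congrArg Subtype.val)
    have b := (H i k false h).imp (congrArg Subtype.val) (congrArg Subtype.val)
    rw [act_apply] at a b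
    rw [eight_split i k h, co0_add]
    have e1 := eight_split (t i) (t k) (t.injective.ne h)
    have e2 : eight (octPt (t k)) = (pairRoot true (t.injective.ne h)).1 - (pairRoot false (t.injective.ne h)).1 := by
      refine Subtype.ext (funext fun p => ?_)
      simp only [eight, pairRoot, pairVec, AddSubgroupClass.coe_sub, Pi.sub_apply, Pi.add_apply, cond_true,
        cond_false, Pi.single_apply]
      split_ifs <;> omega
    rcases a with a | a <;> rcases b with b | b <;> rw [a, b]
    · exact ⟨t i, Or.inl rfl, Or.inl e1.symm⟩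
    · exact ⟨t k, Or.inr rfl, Or.inl (by rw [e2, AddSubgroup.coe_neg, sub_eq_add_neg])⟩
    · exact ⟨t k, Or.inr rfl, Or.inr (by rw [e2, AddSubgroup.coe_neg, neg_sub, sub_eq_neg_add])⟩
    · exact ⟨t i, Or.inl rfl, Or.inr (by rw [e1, AddSubgroup.coe_neg, AddSubgroup.coe_neg, neg_add])⟩
  have hi : ∀ i, (g : Co0) • eight (octPt i) = eight (octPt (t i)) ∨ (g : Co0) • eight (octPt i) = -eight (octPt (t i)) := by
    intro i
    obtain ⟨k, k', h, h', hkk⟩ := three_points i
    obtain ⟨m, hm, e⟩ := key i k h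
    obtain ⟨m', hm', e'⟩ := key i k' h'
    have hmm : m = m' := by
      refine octPt_spec.2 (eight_eq_iff ?_)
      rcases e with e | e <;> rcases e' with e' | e' <;> rw [e] at e'
      · exact Or.inl e'
      · exact Or.inr e'
      · exact Or.inr (by rw [← e', neg_neg])
      · exact Or.inl (neg_injective e')
    rcases hm with rfl | rfl
    · exact e
    · rcases hm' with rfl | rfl
      · exact absurd (t.injective hmm) h.symm
      · exact absurd (t.injective hmm) hkk
  obtain ⟨σ, hσ, c, hc, e⟩ := exists_monoAut (mem_crossStab_of_congr (hi 0))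
  refine ⟨σ, hσ, c, hc, e, fun i => ?_⟩
  have h1 := hi i
  rw [e] at h1
  have hs : monoAut hσ hc • eight (octPt i) = eight (σ (octPt i)) ∨ monoAut hσ hc • eight (octPt i) = -eight (σ (octPt i)) := by
    by_cases hm : σ (octPt i) ∈ c
    · refine Or.inr (Subtype.ext ?_)
      rw [monoAut_smul, AddSubgroup.coe_neg, eight, eight, signedPerm_eight, if_pos hm, Pi.single_neg]
    · refine Or.inl (Subtype.ext ?_)
      rw [monoAut_smul, eight, eight, signedPerm_eight, if_neg hm]
  refine eight_eq_iff ?_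
  rcases h1 with h1 | h1 <;> rcases hs with hs | hs <;> rw [hs] at h1
  · exact Or.inl h1
  · exact Or.inr (by rw [← h1, neg_neg])
  · exact Or.inr h1
  · exact Or.inl (neg_injective h1)

/-- The pair reflected by the third root. -/
abbrev swap01 : Equiv.Perm (Fin 8) := Equiv.swap 0 1

theorem swap_check : ∀ i k : Fin 8, ∀ b : Bool, i ≠ k →
    red (pairVec (swap01 i) (swap01 k) b) = step 2 (red (pairVec i k b)) := by decide +kernel

theorem gen_two_not_mem : gen 2 ∉ phi.range := by
  rintro ⟨g, hg⟩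
  obtain ⟨σ, hσ, c, hc, -, hs⟩ := mono_of_pairs g swap01 fun i k b h => by
    refine congr_short ?_ (pair_check _ _ b ((swap01).injective.ne h)).2.2 ?_
    · rw [act_apply, co0_norm]; exact (pair_check i k b h).2.2
    · rw [← redMat_spec, ← mat_phi, hg, gen_mulVec (by norm_num)]
      exact (swap_check i k b h).symm
  have hin : ∀ j, octPt j ∈ oct := fun j => (octPt_spec.1 _).2 ⟨j, rfl⟩
  have hmap : σ • oct = oct := by
    refine Finset.eq_of_subset_of_card_le (fun p hp => ?_) (card_smul_finset' σ oct).ge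
    obtain ⟨q, hq, rfl⟩ := Finset.mem_smul_finset.1 hp
    obtain ⟨j, rfl⟩ := (octPt_spec.1 q).1 hq
    show σ (octPt j) ∈ oct
    rw [hs]; exact hin _
  have hmem : restrictSet oct ⟨σ, mem_setwise.2 ⟨hσ, hmap⟩⟩ ∈ (restrictSet oct).range := ⟨_, rfl⟩
  rw [range_restrict_octad oct_octad, Equiv.Perm.mem_alternatingGroup] at hmem
  have hswap : restrictSet oct ⟨σ, mem_setwise.2 ⟨hσ, hmap⟩⟩ =
      Equiv.swap (⟨octPt 0, hin 0⟩ : ↥oct) ⟨octPt 1, hin 1⟩ := by
    refine Equiv.ext fun x => Subtype.ext ?_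
    obtain ⟨x, hx⟩ := x
    obtain ⟨j, rfl⟩ := (octPt_spec.1 x).1 hx
    rw [restrictSet_apply]
    show σ (octPt j) = _
    have hinj : Function.Injective fun j => (⟨octPt j, hin j⟩ : ↥oct) := fun a b e =>
      octPt_spec.2 (congrArg Subtype.val e)
    rw [hs, show (⟨octPt j, hx⟩ : ↥oct) = (fun j => (⟨octPt j, hin j⟩ : ↥oct)) j from rfl,
      hinj.swap_apply]
  rw [hswap, Equiv.Perm.sign_swap (fun e => (by decide : (0 : Fin 8) ≠ 1) (octPt_spec.2 (congrArg Subtype.val e)))] at hmem
  exact absurd hmem (by decide)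

theorem range_eq : phi.range = Om := by
  have h2 : Nat.card Iso8 = 2 * 174182400 := by
    rw [show Nat.card Iso8 = _ from CfsgLib.Classical.card_iso_plus (F := ZMod 2) 3,
      show Fintype.card (ZMod 2) = 2 from ZMod.card 2]
    norm_num [Finset.prod_range_succ]
  have : Finite Iso8 := Nat.finite_of_card_ne_zero (by omega)
  obtain ⟨a, ha⟩ := card_om ▸ Subgroup.card_dvd_of_le om_le
  obtain ⟨b, hb⟩ := h2 ▸ Subgroup.card_subgroup_dvd_card phi.range
  rw [ha] at hb
  have hab : a * b = 2 := by nlinarith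
  have ha2 : a = 1 ∨ a = 2 := (Nat.dvd_prime Nat.prime_two).1 ⟨b, hab.symm⟩
  rcases ha2 with rfl | rfl
  · exact (Subgroup.eq_of_le_of_card_ge om_le (by rw [ha, card_om, mul_one])).symm
  · exact absurd ((Subgroup.eq_top_of_card_eq phi.range (by rw [ha, h2, mul_comm])) ▸ Subgroup.mem_top _) gen_two_not_mem

end CfsgLib.Spor.CoOneInv
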