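import Cfsg.Agent.Lib.Spor.CoOneInv.Codes
import Cfsg.Agent.Lib.Spor.CoOneInv.Image
import Cfsg.Agent.Lib.PGroup.FrattiniLe
import Cfsg.Agent.Lib.Coprime.PGroupFrattini
import Cfsg.Prelude.Def_Transfer

/-!
The automorphisms fixing the sublattice pointwise form an extraspecial group of order 2^9.
-/

set_option autoImplicit false

namespace CfsgLib.Spor.CoOneInv

open Cfsg CfsgLib.Spor CfsgLib.Spor.Leech CfsgLib.Spor.Fi22Eight
open scoped Pointwise commutatorElement symmDiff

local notation "Codes" => supports (golayCode : Set (GolayPt → ZMod 2))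

/-- The automorphisms fixing the octad coordinates. -/
def fixSub : Subgroup Co0 where
  carrier := {g | ∀ k, g • eight (octPt k) = eight (octPt k)}
  one_mem' := fun _ => one_smul _ _
  mul_mem' := fun {a b} ha hb k => by rw [mul_smul, hb k, ha k]
  inv_mem' := fun {a} ha k => by rw [inv_smul_eq_iff, ha k]

theorem monoAut_congr {σ τ : Equiv.Perm GolayPt} {hσ : σ ∈ M24} {hτ : τ ∈ M24} {c d : Finset GolayPt} {hc : c ∈ Codes}
    {hd : d ∈ Codes} (h : σ = τ) (h' : c = d) : monoAut hσ hc = monoAut hτ hd := by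
  subst h h'; rfl

theorem mono_mem {σ : Equiv.Perm GolayPt} (hσ : σ ∈ M24) {c : Finset GolayPt} (hc : c ∈ Codes)
    (hs : σ ∈ ptwise oct) (hd : ∀ p ∈ oct, p ∉ c) : monoAut hσ hc ∈ fixSub := by
  intro k
  have hk : octPt k ∈ oct := (octPt_spec.1 _).2 ⟨k, rfl⟩
  refine Subtype.ext ?_
  rw [monoAut_smul, eight, signedPerm_eight, (mem_ptwise.1 hs).2 _ hk, if_neg (hd _ hk)]

theorem fixSub_cases {g : Co0} (hg : g ∈ fixSub) : ∃ σ, ∃ hσ : σ ∈ M24, ∃ c, ∃ hc : c ∈ Codes,
    g = monoAut hσ hc ∧ σ ∈ ptwise oct ∧ ∀ p ∈ oct, p ∉ c := by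
  obtain ⟨σ, hσ, c, hc, rfl⟩ := exists_monoAut (mem_crossStab_of_congr (Or.inl (hg 0)))
  have h1 : ∀ p ∈ oct, σ p = p ∧ p ∉ c := fun p hp => by
    obtain ⟨k, rfl⟩ := (octPt_spec.1 p).1 hp
    have h := congrArg (fun v : leechLattice => (v : GolayPt → ℤ) (σ (octPt k))) (hg k)
    simp only [monoAut_smul, eight, signedPerm_eight, Pi.single_eq_same] at h
    have he : σ (octPt k) = octPt k := by
      by_contra hne
      rw [Pi.single_eq_of_ne hne] at h
      split_ifs at h; omega
    rw [he, Pi.single_eq_same] at h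
    refine ⟨he, fun hm => ?_⟩
    rw [if_pos hm] at h; omega
  exact ⟨σ, hσ, c, hc, rfl, mem_ptwise.2 ⟨hσ, fun p hp => (h1 p hp).1⟩, fun p hp => (h1 p hp).2⟩

theorem fixSub_smul {g : Co0} (hg : g ∈ fixSub) {v : leechLattice} (hv : v ∈ sub8) : g • v = v := by
  obtain ⟨σ, hσ, c, hc, rfl, hs, hd⟩ := fixSub_cases hg
  refine Subtype.ext (funext fun i => ?_)
  rw [monoAut_smul, signedPerm]
  have hmap : ∀ p ∈ oct, σ.symm p = p := fun p hp => by
    rw [Equiv.symm_apply_eq]; exact ((mem_ptwise.1 hs).2 p hp).symm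
  by_cases hi : i ∈ oct
  · rw [if_neg (hd i hi), hmap i hi]
  · have : σ.symm i ∉ oct := fun h => hi (by
      have := (mem_ptwise.1 hs).2 _ h
      rw [Equiv.apply_symm_apply] at this
      rw [this]; exact h)
    simp [hv _ this, hv _ hi]

theorem ptwise_smul_oct {σ : Equiv.Perm GolayPt} (hs : σ ∈ ptwise oct) : σ • oct = oct :=
  Finset.eq_of_subset_of_card_le (fun p hp => by
    obtain ⟨q, hq, rfl⟩ := Finset.mem_smul_finset.1 hp
    show σ q ∈ oct
    rw [(mem_ptwise.1 hs).2 q hq]; exact hq) (card_smul_finset' σ oct).ge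

theorem fixSub_le_cen : fixSub ≤ Cen := by
  intro g hg
  obtain ⟨σ, hσ, c, hc, rfl, hs, -⟩ := fixSub_cases hg
  refine Subgroup.mem_centralizer_singleton_iff.2 ?_
  have h := prmAut_conj hσ oct_supports
  rw [sgnAut_congr (hd := oct_supports) (ptwise_smul_oct hs), mul_inv_eq_iff_eq_mul] at h
  rw [monoAut_eq, tau, mul_assoc, h, ← mul_assoc, sgnAut_comm hc oct_supports, mul_assoc]

/-! ### Code words off the octad -/

theorem off_word {c : Finset GolayPt} (hc : c ∈ Codes) (hd : ∀ p ∈ oct, p ∉ c) : ∃ m ∈ offWords, pts m = c := by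
  have h := List.all_eq_true.1 offWords_eq.1 _ ((mem_supports_iff c).1 hc)
  have hz : Nat.land (maskPts c) baseOctad = 0 := by
    refine Nat.eq_of_testBit_eq fun n => ?_
    rw [show ∀ a b : ℕ, Nat.land a b = a &&& b from fun _ _ => rfl, Nat.testBit_and, Nat.zero_testBit]
    rcases hb : (maskPts c).testBit n with _ | _
    · rfl
    · rw [maskPts, testBit_maskFn, Bool.and_eq_true, decide_eq_true_eq, decide_eq_true_eq] at hb
      rw [Bool.true_and]
      by_contra ho
      rw [Bool.not_eq_false] at ho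
      refine hd (idxPt n) ?_ hb.2
      rw [oct, mem_pts, ptIdx_idxPt n hb.1, ho]
  rw [hz, Nat.beq_refl, Bool.not_true, Bool.false_or, List.elem_eq_mem, decide_eq_true_eq] at h
  exact ⟨_, h, pts_maskPts c⟩

theorem off_spec {m : ℕ} (hm : m ∈ offWords) : pts m ∈ Codes ∧ (∀ p ∈ oct, p ∉ pts m) ∧ m < 2 ^ 24 := by
  have h := List.all_eq_true.1 offWords_eq.2.1 m hm
  simp only [Bool.and_eq_true] at h
  refine ⟨pts_supports h.1.1, fun p hp hp' => ?_, Nat.le_of_ble_eq_true h.2⟩
  have := congrArg (fun a : ℕ => a.testBit (ptIdx p)) (Nat.eq_of_beq_eq_true h.1.2)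
  simp only [show ∀ a b : ℕ, Nat.land a b = a &&& b from fun _ _ => rfl, Nat.testBit_and, Nat.zero_testBit] at this
  rw [mem_pts.1 hp', show baseOctad.testBit (ptIdx p) = true from mem_pts.1 hp] at this
  exact Bool.noConfusion this

theorem offMask_mem : offMask ∈ offWords := by decide

theorem off_fixed {σ : Equiv.Perm GolayPt} (hs : σ ∈ ptwise oct) : σ • pts offMask = pts offMask := by
  obtain ⟨s, hs', e⟩ := mem_ptwise_base.1 hs
  subst e
  rw [smul_pts (isPermCode_of_isM24Code (List.all_eq_true.1 fiveList_perm s (List.mem_filter.1 hs').1)),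
    Nat.eq_of_beq_eq_true (List.all_eq_true.1 offMask_fixed s hs')]

/-- The central element. -/
noncomputable def zFix : Co0 := sgnAut (off_spec offMask_mem).1

theorem perm_code {σ : Equiv.Perm GolayPt} (hs : σ ∈ ptwise oct) :
    ∃ s ∈ octadFixList, isPermCode s = true ∧ permOf s = σ := by
  obtain ⟨s, hs', e⟩ := mem_ptwise_base.1 hs
  exact ⟨s, hs', isPermCode_of_isM24Code (List.all_eq_true.1 fiveList_perm s (List.mem_filter.1 hs').1), e⟩

theorem diff_cases {σ : Equiv.Perm GolayPt} (hs : σ ∈ ptwise oct) {c : Finset GolayPt} (hc : c ∈ Codes)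
    (hd : ∀ p ∈ oct, p ∉ c) : c ∆ (σ • c) = ∅ ∨ c ∆ (σ • c) = pts offMask := by
  obtain ⟨m, hm, rfl⟩ := off_word hc hd
  obtain ⟨s, hs', hp, rfl⟩ := perm_code hs
  have h := List.all_eq_true.1 (List.all_eq_true.1 square_check m hm) s hs'
  rw [smul_pts hp, ← pts_xor_eq, ← pts_zero_eq]
  simp only [Bool.or_eq_true] at h
  exact h.imp (fun h => congrArg pts (Nat.eq_of_beq_eq_true h)) (fun h => congrArg pts (Nat.eq_of_beq_eq_true h))

theorem mono_mul {σ τ : Equiv.Perm GolayPt} (hσ : σ ∈ M24) (hτ : τ ∈ M24) {c d : Finset GolayPt} (hc : c ∈ Codes)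
    (hd : d ∈ Codes) : monoAut hσ hc * monoAut hτ hd =
      monoAut (M24.mul_mem hσ hτ) (supports_symmDiff hc (smul_mem_supports hσ hd)) := by
  rw [monoAut_eq, monoAut_eq, monoAut_eq,
    show sgnAut hc * prmAut hσ * (sgnAut hd * prmAut hτ) =
      sgnAut hc * (prmAut hσ * sgnAut hd * (prmAut hσ)⁻¹) * (prmAut hσ * prmAut hτ) by group,
    prmAut_conj hσ hd, sgnAut_mul, prmAut_mul]

theorem zFix_mul {σ : Equiv.Perm GolayPt} (hσ : σ ∈ M24) {c : Finset GolayPt} (hc : c ∈ Codes) :
    zFix * monoAut hσ hc = monoAut hσ (supports_symmDiff (off_spec offMask_mem).1 hc) := by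
  rw [zFix, monoAut_eq, monoAut_eq, ← mul_assoc, sgnAut_mul]

theorem comm_cases {a b : Co0} (ha : a ∈ fixSub) (hb : b ∈ fixSub) : a * b = b * a ∨ a * b = zFix * (b * a) := by
  obtain ⟨σ, hσ, c, hc, rfl, hs, hdc⟩ := fixSub_cases ha
  obtain ⟨τ, hτ, d, hd, rfl, ht, hdd⟩ := fixSub_cases hb
  have hsq := (ptwise_facts oct_octad).2
  have hst : σ * τ = τ * σ := by
    have h1 := hsq _ (mul_mem hs ht)
    have e := eq_inv_of_mul_eq_one_left h1
    rw [_root_.mul_inv_rev, inv_eq_of_mul_eq_one_right (hsq _ hs), inv_eq_of_mul_eq_one_right (hsq _ ht)] at e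
    exact e
  rw [mono_mul, mono_mul, zFix_mul]
  have key : (c ∆ (σ • d)) ∆ (d ∆ (τ • c)) = (c ∆ (τ • c)) ∆ (d ∆ (σ • d)) := by
    rw [symmDiff_symmDiff_symmDiff_comm, symmDiff_comm (σ • d) (τ • c), symmDiff_symmDiff_symmDiff_comm]
  have hcase : c ∆ (σ • d) = d ∆ (τ • c) ∨ c ∆ (σ • d) = pts offMask ∆ (d ∆ (τ • c)) := by
    have e : ∀ A B : Finset GolayPt, A = (A ∆ B) ∆ B := fun A B => (symmDiff_symmDiff_cancel_right B A).symm
    rcases diff_cases ht hc hdc with h1 | h1 <;> rcases diff_cases hs hd hdd with h2 | h2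
    · left; rw [e (c ∆ (σ • d)) (d ∆ (τ • c)), key, h1, h2]; simp
    · right; rw [e (c ∆ (σ • d)) (d ∆ (τ • c)), key, h1, h2]; simp
    · right; rw [e (c ∆ (σ • d)) (d ∆ (τ • c)), key, h1, h2]; simp
    · left; rw [e (c ∆ (σ • d)) (d ∆ (τ • c)), key, h1, h2]; simp
  exact hcase.imp (monoAut_congr hst) (monoAut_congr hst)

theorem square_cases {a : Co0} (ha : a ∈ fixSub) : a * a = 1 ∨ a * a = zFix := by
  obtain ⟨σ, hσ, c, hc, rfl, hs, hdc⟩ := fixSub_cases ha
  have h1 : σ * σ = 1 := (ptwise_facts oct_octad).2 _ hs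
  rw [mono_mul, monoAut_eq, prmAut_congr (hτ := M24.one_mem) h1, prmAut_one, mul_one]
  rcases diff_cases hs hc hdc with h | h
  · exact Or.inl (by rw [sgnAut_congr (hd := Spor.empty_mem_supports_golayCode) h, sgnAut_empty])
  · exact Or.inr (sgnAut_congr h)

theorem sgn_mem {c : Finset GolayPt} (hc : c ∈ Codes) (hd : ∀ p ∈ oct, p ∉ c) : sgnAut hc ∈ fixSub :=
  mono_mem M24.one_mem hc (one_mem _) hd

theorem zFix_mem : zFix ∈ fixSub := sgn_mem _ (off_spec offMask_mem).2.1

theorem zFix_ne_one : zFix ≠ 1 := by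
  intro h
  have h' : monoAut M24.one_mem (off_spec offMask_mem).1 = monoAut M24.one_mem Spor.empty_mem_supports_golayCode :=
    h.trans sgnAut_empty.symm
  have := congrArg Finset.card (monoAut_inj h').2
  rw [Finset.card_empty, card_pts] at this
  exact absurd this (by decide +kernel)

theorem zFix_sq : zFix * zFix = 1 := sgnAut_sq _

theorem central_cases' {a : Co0} (ha : a ∈ fixSub) (hall : ∀ b ∈ fixSub, a * b = b * a) : a = 1 ∨ a = zFix := by
  obtain ⟨σ, hσ, c, hc, rfl, hs, hdc⟩ := fixSub_cases ha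
  have hσ1 : σ = 1 := by
    obtain ⟨s, hs', hp, rfl⟩ := perm_code hs
    have h := List.all_eq_true.1 fix_check s hs'
    rw [Bool.or_eq_true] at h
    rcases h with h | h
    · refine Equiv.ext fun p => ?_
      rw [permOf_apply hp, Nat.eq_of_beq_eq_true (List.all_eq_true.1 h _ (List.mem_range.2 (ptIdx_lt p))), idxPt_ptIdx]
      rfl
    · exfalso
      obtain ⟨m, hm, hne⟩ := List.any_eq_true.1 h
      have hb := hall _ (mono_mem M24.one_mem (off_spec hm).1 (one_mem _) (off_spec hm).2.1)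
      rw [mono_mul, mono_mul] at hb
      have h2 := (monoAut_inj hb).2
      rw [one_smul, symmDiff_comm, symmDiff_left_inj, smul_pts hp] at h2
      have hlt : permMask s m < 2 ^ 24 := by
        by_contra hcon
        obtain ⟨n, hn, hn'⟩ := Nat.exists_ge_and_testBit_of_ge_two_pow (Nat.le_of_not_lt hcon)
        rw [permMask, testBit_permMaskN] at hn'
        obtain ⟨i, hi, -, e⟩ := hn'
        have := permFn_lt hp hi
        omega
      rw [eq_of_pts_eq hlt (off_spec hm).2.2 h2, Nat.beq_refl] at hne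
      exact Bool.noConfusion hne
  subst hσ1
  obtain ⟨m, hm, rfl⟩ := off_word hc hdc
  have h := List.all_eq_true.1 word_check m hm
  simp only [Bool.or_eq_true] at h
  rcases h with (h | h) | h
  · left
    show sgnAut hc = 1
    rw [sgnAut_congr (hd := Spor.empty_mem_supports_golayCode) (by rw [Nat.eq_of_beq_eq_true h, pts_zero_eq]), sgnAut_empty]
  · exact Or.inr (sgnAut_congr (congrArg pts (Nat.eq_of_beq_eq_true h)))
  · exfalso
    obtain ⟨s, hs', hne⟩ := List.any_eq_true.1 h
    have hp := isPermCode_of_isM24Code (List.all_eq_true.1 fiveList_perm s (List.mem_filter.1 hs').1)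
    have hps : permOf s ∈ ptwise oct := mem_ptwise_base.2 ⟨s, hs', rfl⟩
    have hb := hall _ (mono_mem (mem_ptwise.1 hps).1 Spor.empty_mem_supports_golayCode hps (by simp))
    rw [mono_mul, mono_mul] at hb
    have h2 := (monoAut_inj hb).2
    rw [smul_pts hp, Finset.smul_finset_empty, ← Finset.bot_eq_empty, symmDiff_bot, bot_symmDiff] at h2
    have hlt : permMask s m < 2 ^ 24 := by
      by_contra hcon
      obtain ⟨n, hn, hn'⟩ := Nat.exists_ge_and_testBit_of_ge_two_pow (Nat.le_of_not_lt hcon)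
      rw [permMask, testBit_permMaskN] at hn'
      obtain ⟨i, hi, -, e⟩ := hn'
      have := permFn_lt hp hi
      omega
    rw [eq_of_pts_eq hlt (off_spec hm).2.2 h2.symm, Nat.beq_refl] at hne
    exact Bool.noConfusion hne

theorem card_fixSub : Nat.card ↥fixSub = 512 := by
  let F : ↥offWords.toFinset × ↥(ptwise oct) → fixSub := fun z =>
    ⟨monoAut (mem_ptwise.1 z.2.2).1 (off_spec (List.mem_toFinset.1 z.1.2)).1,
      mono_mem _ _ z.2.2 (off_spec (List.mem_toFinset.1 z.1.2)).2.1⟩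
  have hF : Function.Bijective F := by
    refine ⟨fun z w h => ?_, fun g => ?_⟩
    · have h' : monoAut (mem_ptwise.1 z.2.2).1 (off_spec (List.mem_toFinset.1 z.1.2)).1 =
          monoAut (mem_ptwise.1 w.2.2).1 (off_spec (List.mem_toFinset.1 w.1.2)).1 := congrArg Subtype.val h
      obtain ⟨h1, h2⟩ := monoAut_inj h'
      exact Prod.ext (Subtype.ext (eq_of_pts_eq (off_spec (List.mem_toFinset.1 z.1.2)).2.2
        (off_spec (List.mem_toFinset.1 w.1.2)).2.2 h2)) (Subtype.ext h1)
    · obtain ⟨σ, hσ, c, hc, e, hs, hd⟩ := fixSub_cases g.2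
      obtain ⟨m, hm, rfl⟩ := off_word hc hd
      exact ⟨⟨⟨m, List.mem_toFinset.2 hm⟩, ⟨σ, hs⟩⟩, Subtype.ext e.symm⟩
  rw [← Nat.card_eq_of_bijective F hF, Nat.card_prod, (ptwise_facts oct_octad).1,
    Nat.card_eq_fintype_card, Fintype.card_coe, List.toFinset_card_of_nodup offWords_eq.2.2]
  rfl

theorem fixSub_extraspecial : Cfsg.IsExtraspecial 2 ↥fixSub := by
  haveI : Fact (Nat.Prime 2) := ⟨Nat.prime_two⟩
  set t : ↥fixSub := ⟨zFix, zFix_mem⟩
  have hzp : ∀ x : ↥fixSub, (x : Co0) = 1 ∨ (x : Co0) = zFix → x ∈ Subgroup.zpowers t := fun x hx => by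
    rcases hx with e | e
    · rw [show x = 1 from Subtype.ext e]; exact one_mem _
    · rw [show x = t from Subtype.ext e]; exact Subgroup.mem_zpowers _
  have hord : orderOf t = 2 := orderOf_eq_prime (by rw [pow_two]; exact Subtype.ext zFix_sq) fun e =>
    zFix_ne_one (congrArg Subtype.val e)
  have hcenter : Subgroup.center ↥fixSub = Subgroup.zpowers t := by
    refine le_antisymm (fun x hx => hzp x (central_cases' x.2 fun b hb =>
      (congrArg Subtype.val (Subgroup.mem_center_iff.1 hx ⟨b, hb⟩)).symm)) (Subgroup.zpowers_le.2 ?_)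
    refine Subgroup.mem_center_iff.2 fun y => Subtype.ext ?_
    show (y : Co0) * zFix = zFix * y
    obtain ⟨σ, hσ, c, hc, e, hs, -⟩ := fixSub_cases y.2
    rw [e, zFix_mul, zFix, show sgnAut (off_spec offMask_mem).1 = monoAut M24.one_mem (off_spec offMask_mem).1 from rfl,
      mono_mul]
    refine monoAut_congr (mul_one σ) ?_
    rw [off_fixed hs]
    exact symmDiff_comm _ _
  have hcard : Nat.card ↥(Subgroup.center ↥fixSub) = 2 := by rw [hcenter, Nat.card_zpowers, hord]
  have hle : commutator ↥fixSub ≤ Subgroup.zpowers t := by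
    rw [commutator_def, Subgroup.commutator_le]
    intro a _ b _
    refine hzp _ ((comm_cases a.2 b.2).imp (fun h => ?_) fun h => ?_)
    · show (a : Co0) * b * (a : Co0)⁻¹ * (b : Co0)⁻¹ = 1
      rw [h]; group
    · show (a : Co0) * b * (a : Co0)⁻¹ * (b : Co0)⁻¹ = zFix
      rw [h]; group
  have hcomm : commutator ↥fixSub = Subgroup.zpowers t := by
    haveI : Fact (Nat.card ↥(Subgroup.zpowers t)).Prime := ⟨by rw [Nat.card_zpowers, hord]; norm_num⟩
    rcases Subgroup.eq_bot_or_eq_top_of_prime_card ((commutator ↥fixSub).subgroupOf (Subgroup.zpowers t)) with h | h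
    · exfalso
      rw [Subgroup.subgroupOf_eq_bot, disjoint_iff, inf_eq_left.2 hle] at h
      have htop : Subgroup.center ↥fixSub = ⊤ := by
        rw [eq_top_iff]
        intro x _
        rw [Subgroup.mem_center_iff]
        intro y
        have : ⁅y, x⁆ = 1 := by
          rw [← Subgroup.mem_bot, ← h]
          exact Subgroup.commutator_mem_commutator (Subgroup.mem_top y) (Subgroup.mem_top x)
        exact commutatorElement_eq_one_iff_mul_comm.1 this
      rw [htop, Subgroup.card_top, card_fixSub] at hcard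
      norm_num at hcard
    · exact le_antisymm hle (Subgroup.subgroupOf_eq_top.1 h)
  have hp : IsPGroup 2 ↥fixSub := IsPGroup.of_card (n := 9) (by rw [card_fixSub]; norm_num)
  refine ⟨⟨hp, ?_, hcomm.trans hcenter.symm⟩, hcard⟩
  refine le_antisymm ?_ ?_
  · rw [hcenter]
    exact FrattiniLe.frattini_le_of_pow_of_commutator (p := 2)
      (fun x => hzp _ (by rw [SubmonoidClass.coe_pow, pow_two]; exact square_cases x.2)) hle
  · rw [hcenter, ← hcomm]
    exact Coprime.commutator_le_frattini hp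

end CfsgLib.Spor.CoOneInv
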