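import Cfsg.Agent.Lib.Spor.CoOneInv.Kernel
import Cfsg.Agent.Lib.Spor.CoTwoInv.Transfer
import Cfsg.Agent.Lib.Spor.Fi22Model.FStar
import Cfsg.Prelude.Def_Local

/-!
The large extraspecial hypothesis for the first Conway group.
-/

set_option autoImplicit false

namespace CfsgLib.Spor.CoOneInv

open Cfsg CfsgLib.Spor CfsgLib.Spor.Leech CfsgLib.Spor.Fi22Eight
open scoped Pointwise commutatorElement symmDiff Matrix

/-- The projection. -/
abbrev proj : Co0 →* Spor.Co1 := QuotientGroup.mk' (Subgroup.center Co0)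

theorem proj_eq_one {g : Co0} : proj g = 1 ↔ g = 1 ∨ g = negAut := by
  rw [QuotientGroup.mk'_apply, QuotientGroup.eq_one_iff, mem_center_iff_eq]

theorem proj_eq {g h : Co0} (e : proj g = proj h) : g = h ∨ g = negAut * h := by
  have h1 : proj (g * h⁻¹) = 1 := by rw [map_mul, map_inv, e, mul_inv_cancel]
  rcases proj_eq_one.1 h1 with h2 | h2
  · exact Or.inl (mul_inv_eq_one.1 h2)
  · exact Or.inr (mul_inv_eq_iff_eq_mul.1 h2)

theorem negAut_mem : negAut ∈ Cen :=
  Subgroup.mem_centralizer_singleton_iff.2 ((Subgroup.mem_center_iff.1 negAut_central tau).symm)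

/-- Negation in the centralizer. -/
noncomputable def negC : ↥Cen := ⟨negAut, negAut_mem⟩

theorem phi_negC : phi negC = 1 := by
  refine eq_of_units fun n hn => ?_
  show redMat negC *ᵥ dec n = mat (1 : Iso8) *ᵥ dec n
  rw [← redHom_rep (dec n), redMat_spec]
  refine Eq.trans ?_ (Matrix.one_mulVec _).symm
  have e : act negC (rep (dec n)) = -rep (dec n) := Subtype.ext (negAut_smul _)
  rw [e, map_neg]
  funext u
  exact ZMod.neg_eq_self_mod_two _

theorem phi_fix {g : ↥Cen} (hg : (g : Co0) ∈ fixSub) : phi g = 1 := by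
  refine eq_of_units fun n hn => ?_
  show redMat g *ᵥ dec n = mat (1 : Iso8) *ᵥ dec n
  rw [← redHom_rep (dec n), redMat_spec]
  refine Eq.trans ?_ (Matrix.one_mulVec _).symm
  rw [show act g (rep (dec n)) = rep (dec n) from Subtype.ext (fixSub_smul hg (rep (dec n)).2)]

/-- Twice the octad. -/
def twoOct : GolayPt → ℤ := fun p => if p ∈ oct then 2 else 0

theorem twoOct_test : leechTest twoOct = true ∧ sqNorm twoOct = 32 := by decide +kernel

/-- Twice the octad, in the sublattice. -/
def twoOctV : sub8 := ⟨⟨twoOct, leechTest_spec twoOct_test.1⟩, fun p hp => if_neg hp⟩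

theorem ker_cases {g : ↥Cen} (hg : phi g = 1) : (g : Co0) ∈ fixSub ∨ negAut * g ∈ fixSub := by
  have key : ∀ v : sub8, sqNorm (v.1 : GolayPt → ℤ) = 32 → act g v = v ∨ act g v = -v := fun v hv => by
    refine congr_short (by rw [act_apply, co0_norm]; exact hv) hv ?_
    rw [← redMat_spec, ← mat_phi, hg]
    exact Matrix.one_mulVec _
  obtain ⟨σ, hσ, c, hc, e, hs⟩ := mono_of_pairs g 1 fun i k b h => key _ (pair_check i k b h).2.2
  have hps : σ ∈ ptwise oct := mem_ptwise.2 ⟨hσ, fun p hp => by
    obtain ⟨k, rfl⟩ := (octPt_spec.1 p).1 hp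
    exact hs k⟩
  have hsgn : (∀ p ∈ oct, p ∉ c) ∨ ∀ p ∈ oct, p ∈ c := by
    have hv : ∀ p ∈ oct, ((g : Co0) • twoOctV.1 : leechLattice).1 p = if p ∈ c then -2 else 2 := fun p hp => by
      have hp' : σ.symm p = p := by rw [Equiv.symm_apply_eq]; exact ((mem_ptwise.1 hps).2 p hp).symm
      rw [e, monoAut_smul, signedPerm, hp']
      simp [twoOctV, twoOct, hp]
    rcases key twoOctV twoOct_test.2 with h | h
    · refine Or.inl fun p hp hm => ?_
      have := (hv p hp).symm.trans (congrArg (fun v : sub8 => (v.1 : GolayPt → ℤ) p) h)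
      simp [hm, twoOctV, twoOct, hp] at this
    · refine Or.inr fun p hp => by_contra fun hm => ?_
      have := (hv p hp).symm.trans (congrArg (fun v : sub8 => (v.1 : GolayPt → ℤ) p) h)
      simp [hm, twoOctV, twoOct, hp] at this
  rcases hsgn with h | h
  · exact Or.inl (e ▸ mono_mem hσ hc hps h)
  · right
    rw [e, negAut, mono_mul, monoAut_congr (hτ := hσ)
      (hd := supports_symmDiff Spor.univ_mem_supports_golayCode (smul_mem_supports M24.one_mem hc)) (one_mul σ) rfl]
    refine mono_mem hσ _ hps fun p hp => ?_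
    rw [Finset.mem_symmDiff]
    simp [h p hp]

/-- The central involution. -/
noncomputable def zOne : Spor.Co1 := proj tau

/-- Its centralizer. -/
abbrev CenOne : Subgroup Spor.Co1 := Subgroup.centralizer {zOne}

theorem tau_twist (g : Co0) : g * tau ≠ negAut * tau * g := by
  intro h
  have hmap : ∀ i : GolayPt, i ∉ oct → g • eight i ∈ sub8 := fun i hi => by
    have hfix : tau • eight i = eight i := Subtype.ext (funext fun j => by
      rw [tau, sgnAut_smul]
      split_ifs with hj
      · have : j ≠ i := fun e => hi (e ▸ hj)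
        simp [eight, this]
      · rfl)
    have h1 := congrArg (fun k : Co0 => k • eight i) h
    simp only [mul_smul, hfix] at h1
    rw [mem_sub8_iff, eq_neg_iff_add_eq_zero]
    conv_lhs => arg 2; rw [h1, negAut_smul]
    exact add_neg_cancel _
  obtain ⟨w, hw⟩ : ∃ w : Fin 9 → GolayPt, Function.Injective w ∧ ∀ a, w a ∉ oct :=
    ⟨fun a => idxPt ([4, 6, 7, 8, 9, 10, 11, 12, 13].getD a.1 0), by unfold Function.Injective; decide +kernel,
      by decide +kernel⟩
  let f : Fin 9 → Fin 8 → ℚ := fun a k => (((g • eight (w a) : leechLattice) : GolayPt → ℤ) (octPt k) : ℚ)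
  have horth : ∀ a b, ∑ k, f a k * f b k = if a = b then 64 else 0 := fun a b => by
    have e1 : ∑ k, f a k * f b k = ((∑ k, ((g • eight (w a) : leechLattice) : GolayPt → ℤ) (octPt k) *
        ((g • eight (w b) : leechLattice) : GolayPt → ℤ) (octPt k) : ℤ) : ℚ) := by
      push_cast; rfl
    rw [e1, ← dot_oct (hmap _ (hw.2 a)), co0_dot]
    have e2 : dotInt (eight (w a) : GolayPt → ℤ) (eight (w b) : GolayPt → ℤ) = if a = b then 64 else 0 := by
      simp only [dotInt, eight, Pi.single_apply, ite_mul, zero_mul, Finset.sum_ite_eq', Finset.mem_univ, if_true]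
      by_cases hab : a = b
      · subst hab; simp
      · rw [if_neg fun e => hab (hw.1 e), if_neg hab]; simp
    rw [e2]; split_ifs <;> simp
  have hli : LinearIndependent ℚ f := by
    rw [Fintype.linearIndependent_iff]
    intro c hc a
    have h0 : ∑ k, (∑ b, c b • f b) k * f a k = 0 := by rw [hc]; simp
    simp only [Finset.sum_apply, Pi.smul_apply, smul_eq_mul, Finset.sum_mul] at h0
    rw [Finset.sum_comm] at h0
    simp only [mul_assoc, ← Finset.mul_sum, horth, mul_ite, mul_zero, Finset.sum_ite_eq', Finset.mem_univ, if_true,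
      mul_eq_zero] at h0
    exact h0.resolve_right (by norm_num)
  have := hli.fintype_card_le_finrank
  simp at this

/-- The centralizer upstairs maps onto the centralizer downstairs. -/
noncomputable def downHom : ↥Cen →* ↥CenOne :=
  ((proj.comp Cen.subtype).codRestrict CenOne) fun g => Subgroup.mem_centralizer_singleton_iff.2 (by
    show proj g * proj tau = proj tau * proj g
    rw [← map_mul, ← map_mul, cen_comm])

theorem downHom_surjective : Function.Surjective downHom := by
  rintro ⟨x, hx⟩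
  obtain ⟨g, rfl⟩ := QuotientGroup.mk'_surjective (Subgroup.center Co0) x
  have h : proj (g * tau) = proj (tau * g) := by
    rw [map_mul, map_mul]; exact Subgroup.mem_centralizer_singleton_iff.1 hx
  rcases proj_eq h with e | e
  · exact ⟨⟨g, Subgroup.mem_centralizer_singleton_iff.2 e⟩, rfl⟩
  · exact absurd (e.trans (mul_assoc _ _ _).symm) (tau_twist g)

theorem phi_of_down {g : ↥Cen} (h : g ∈ downHom.ker) : g ∈ phi.ker := by
  have h1 : proj (g : Co0) = 1 := congrArg Subtype.val h
  rcases proj_eq_one.1 h1 with e | e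
  · rw [show g = 1 from Subtype.ext e]; exact one_mem _
  · rw [show g = negC from Subtype.ext e]; exact phi_negC

/-- The map from the centralizer downstairs. -/
noncomputable def phiOne : ↥CenOne →* Iso8 :=
  downHom.liftOfSurjective downHom_surjective ⟨phi, fun _ => phi_of_down⟩

theorem phiOne_down (g : ↥Cen) : phiOne (downHom g) = phi g :=
  MonoidHom.liftOfRightInverse_comp_apply downHom _ _ ⟨phi, fun _ => phi_of_down⟩ g

theorem range_phiOne : phiOne.range = Om := by
  rw [← range_eq]
  ext y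
  constructor
  · rintro ⟨x, rfl⟩
    obtain ⟨g, rfl⟩ := downHom_surjective x
    exact ⟨g, (phiOne_down g).symm⟩
  · rintro ⟨g, rfl⟩
    exact ⟨downHom g, phiOne_down g⟩

/-- The extraspecial group downstairs. -/
noncomputable def fixHom : ↥fixSub →* ↥CenOne := downHom.comp (Subgroup.inclusion fixSub_le_cen)

theorem fixHom_range : fixHom.range = phiOne.ker := by
  ext x
  constructor
  · rintro ⟨g, rfl⟩
    rw [MonoidHom.mem_ker, fixHom, MonoidHom.comp_apply, phiOne_down]
    exact phi_fix g.2
  · intro hx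
    obtain ⟨g, rfl⟩ := downHom_surjective x
    rw [MonoidHom.mem_ker, phiOne_down] at hx
    rcases ker_cases hx with h | h
    · exact ⟨⟨_, h⟩, rfl⟩
    · refine ⟨⟨_, h⟩, Subtype.ext ?_⟩
      show proj (negAut * (g : Co0)) = proj g
      rw [map_mul, proj_eq_one.2 (Or.inr rfl), one_mul]

theorem negAut_not_fix : negAut ∉ fixSub := fun h => by
  have h1 := h 0
  rw [negAut_smul] at h1
  have := congrArg (fun v : leechLattice => (v : GolayPt → ℤ) (octPt 0)) h1
  simp [eight] at this

theorem fixHom_injective : Function.Injective fixHom := by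
  rw [injective_iff_map_eq_one]
  intro g hg
  rcases proj_eq_one.1 (congrArg Subtype.val hg) with e | e
  · exact Subtype.ext e
  · exact absurd (e ▸ g.2) negAut_not_fix

/-- The isomorphism. -/
noncomputable def fixEquiv : ↥fixSub ≃* ↥phiOne.ker :=
  (MonoidHom.ofInjective fixHom_injective).trans (MulEquiv.subgroupCongr fixHom_range)

theorem tau_ne : tau ≠ 1 ∧ tau ≠ negAut := by
  constructor <;> intro h
  · have := congrArg (fun k : Co0 => ((k • eight (octPt 0) : leechLattice) : GolayPt → ℤ) (octPt 0)) h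
    simp [tau, sgnAut_smul, eight, (octPt_spec.1 _).2 ⟨0, rfl⟩] at this
  · have hi : idxPt 4 ∉ oct := by decide +kernel
    have := congrArg (fun k : Co0 => ((k • eight (idxPt 4) : leechLattice) : GolayPt → ℤ) (idxPt 4)) h
    simp [tau, sgnAut_smul, negAut_smul, eight, hi] at this

theorem zOne_order : orderOf zOne = 2 :=
  haveI : Fact (Nat.Prime 2) := ⟨Nat.prime_two⟩
  orderOf_eq_prime (by rw [zOne, ← map_pow, pow_two, tau, sgnAut_sq, map_one]) fun h =>
    (proj_eq_one.1 h).elim tau_ne.1 tau_ne.2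

theorem centralizer_le : Subgroup.centralizer (phiOne.ker : Set ↥CenOne) ≤ phiOne.ker := by
  set Z := Subgroup.centralizer (phiOne.ker : Set ↥CenOne)
  haveI := om_simple
  let ψ : ↥CenOne →* ↥Om := phiOne.codRestrict Om fun x => range_phiOne ▸ ⟨x, rfl⟩
  have hψ : Function.Surjective ψ := fun y => by
    obtain ⟨x, hx⟩ : (y : Iso8) ∈ phiOne.range := range_phiOne.symm ▸ y.2
    exact ⟨x, Subtype.ext hx⟩
  haveI : Z.Normal := Subgroup.normal_centralizer
  rcases (inferInstance : Z.Normal).map ψ hψ |>.eq_bot_or_eq_top with h | h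
  · intro x hx
    have := Subgroup.mem_bot.1 (h ▸ Subgroup.mem_map_of_mem ψ hx)
    exact congrArg Subtype.val this
  · exfalso
    let x : ↥CenOne := downHom (letter 0)
    obtain ⟨y, hy, e⟩ : ψ x ∈ Z.map ψ := h ▸ Subgroup.mem_top _
    have hq : y⁻¹ * x ∈ phiOne.ker := by
      rw [MonoidHom.mem_ker, map_mul, map_inv, show phiOne y = phiOne x from congrArg Subtype.val e, inv_mul_cancel]
    obtain ⟨m, hm, hne⟩ : ∃ m ∈ offWords, permMask (letterPerms.getD 0 0) m ≠ m ∧
        Nat.xor m (permMask (letterPerms.getD 0 0) m) ≠ offMask := moved_word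
    obtain ⟨hc, hd, hlt⟩ := off_spec hm
    let q : ↥CenOne := fixHom ⟨sgnAut hc, sgn_mem hc hd⟩
    have hqm : q ∈ phiOne.ker := fixHom_range ▸ ⟨_, rfl⟩
    obtain ⟨k, hk⟩ : ∃ k, fixHom k = y⁻¹ * x := by
      rw [← fixHom_range] at hq; exact hq
    have hx' : x = y * fixHom k := by rw [hk, mul_inv_cancel_left]
    have hyq : y * q = q * y := (Subgroup.mem_centralizer_iff.1 hy q hqm).symm
    have hconj : x * q * x⁻¹ = fixHom (k * ⟨sgnAut hc, sgn_mem hc hd⟩ * k⁻¹) := by
      rw [map_mul, map_mul, map_inv, hx', _root_.mul_inv_rev]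
      have hy' : ∀ r ∈ phiOne.ker, y * r * y⁻¹ = r := fun r hr => by
        rw [← Subgroup.mem_centralizer_iff.1 hy r hr, mul_inv_cancel_right]
      rw [show y * fixHom k * q * ((fixHom k)⁻¹ * y⁻¹) = y * (fixHom k * q * (fixHom k)⁻¹) * y⁻¹ by group]
      exact hy' _ (mul_mem (mul_mem (fixHom_range ▸ ⟨k, rfl⟩) hqm) (inv_mem (fixHom_range ▸ ⟨k, rfl⟩)))
    have hp : isPermCode (letterPerms.getD 0 0) = true := isPermCode_of_isM24Code (perm_mem 0).1
    have hcase : k.1 * sgnAut hc * (k.1)⁻¹ = sgnAut hc ∨ k.1 * sgnAut hc * (k.1)⁻¹ = zFix * sgnAut hc := by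
      rcases comm_cases k.2 (sgn_mem hc hd) with e' | e'
      · exact Or.inl (by rw [e', mul_inv_cancel_right])
      · exact Or.inr (by rw [e', ← mul_assoc, mul_inv_cancel_right])
    have hup : proj (permEl 0 * sgnAut hc * (permEl 0)⁻¹) = proj (k.1 * sgnAut hc * (k.1)⁻¹) :=
      congrArg Subtype.val hconj
    rw [permEl, prmAut_conj] at hup
    have hpts : ∀ {d : Finset GolayPt} (hd' : d ∈ supports (golayCode : Set (GolayPt → ZMod 2))),
        sgnAut (smul_mem_supports (permOf_mem_M24 (perm_mem 0).1) hc) = sgnAut hd' →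
        pts (permMask (letterPerms.getD 0 0) m) = d := fun {d} hd' e' => by
      rw [← smul_pts hp]; exact (monoAut_inj (hσ := M24.one_mem) (hτ := M24.one_mem) e').2
    have hlt' : permMask (letterPerms.getD 0 0) m < 2 ^ 24 := by
      by_contra hcon
      obtain ⟨n, hn, hn'⟩ := Nat.exists_ge_and_testBit_of_ge_two_pow (Nat.le_of_not_lt hcon)
      rw [permMask, testBit_permMaskN] at hn'
      obtain ⟨i, hi, -, e'⟩ := hn'
      have := permFn_lt hp hi
      omega
    have hfix' : sgnAut (smul_mem_supports (permOf_mem_M24 (perm_mem 0).1) hc) ∈ fixSub := by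
      refine sgn_mem _ fun p hp' hmem => ?_
      have hoct : permOf (letterPerms.getD 0 0) • oct = oct := by
        rw [oct, smul_pts hp]
        exact congrArg pts (perm_mem 0).2
      rw [← hoct, Finset.mem_smul_finset] at hp'
      obtain ⟨r, hr, rfl⟩ := hp'
      exact hd r hr ((Finset.smul_mem_smul_finset_iff _).1 hmem)
    rcases proj_eq hup with e' | e'
    · rcases hcase with e'' | e'' <;> rw [e''] at e'
      · exact hne.1 (eq_of_pts_eq hlt' hlt (hpts hc e'))
      · refine hne.2 ?_
        have h2 := hpts (supports_symmDiff (off_spec offMask_mem).1 hc) (by rw [e', zFix, sgnAut_mul])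
        rw [← pts_xor_eq] at h2
        have h3 := eq_of_pts_eq hlt' (Nat.xor_lt_two_pow (off_spec offMask_mem).2.2 hlt) h2
        rw [h3, show ∀ a b : ℕ, Nat.xor a b = a ^^^ b from fun _ _ => rfl, Nat.xor_comm offMask m, ← Nat.xor_assoc,
          Nat.xor_self, Nat.zero_xor]
    · refine negAut_not_fix ?_
      have hmem := mul_mem hfix' (inv_mem (mul_mem (mul_mem k.2 (sgn_mem hc hd)) (inv_mem k.2)))
      rw [e', mul_inv_cancel_right] at hmem
      exact hmem
where
  moved_word : ∃ m ∈ offWords, permMask (letterPerms.getD 0 0) m ≠ m ∧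
      Nat.xor m (permMask (letterPerms.getD 0 0) m) ≠ offMask := by decide +kernel

theorem main : ∃ z : Spor.Co1, orderOf z = 2 ∧ ∃ (Q : Subgroup (Subgroup.centralizer ({z} : Set Spor.Co1))) (_ : Q.Normal),
    Cfsg.generalizedFittingSubgroup (Subgroup.centralizer ({z} : Set Spor.Co1)) = Q ∧ Cfsg.IsExtraspecial 2 Q ∧
    Nat.card Q = 2 ^ 9 ∧
    Nonempty ((Subgroup.centralizer ({z} : Set Spor.Co1)) ⧸ Q ≃* Cfsg.Omega (ZMod 2) (Cfsg.quadFormPlus 4 (ZMod 2))) ∧
    ∃ g : Spor.Co1, (∃ hq : g * z * g⁻¹ ∈ Subgroup.centralizer ({z} : Set Spor.Co1),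
      (⟨g * z * g⁻¹, hq⟩ : Subgroup.centralizer ({z} : Set Spor.Co1)) ∈ Q) ∧ g * z * g⁻¹ ≠ z := by
  haveI : Fact (Nat.Prime 2) := ⟨Nat.prime_two⟩
  haveI : Finite Spor.Co1 := Quotient.finite _
  have hext : Cfsg.IsExtraspecial 2 ↥phiOne.ker := CoTwoInv.isExtraspecial_of_equiv fixEquiv fixSub_extraspecial
  have hcard : Nat.card ↥phiOne.ker = 2 ^ 9 := by rw [← Nat.card_congr fixEquiv.toEquiv, card_fixSub]; norm_num
  refine ⟨zOne, zOne_order, phiOne.ker, inferInstance, ?_, hext, hcard,
    ⟨(QuotientGroup.quotientKerEquivRange phiOne).trans (MulEquiv.subgroupCongr range_phiOne)⟩, ?_⟩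
  · refine Fi22Model.generalizedFitting_eq_of_selfCentralizing phiOne.ker hext.1.1 centralizer_le fun R hR hp => ?_
    haveI := om_simple
    let ψ : ↥CenOne →* ↥Om := phiOne.codRestrict Om fun x => range_phiOne ▸ ⟨x, rfl⟩
    have hψ : Function.Surjective ψ := fun y => by
      obtain ⟨x, hx⟩ : (y : Iso8) ∈ phiOne.range := range_phiOne.symm ▸ y.2
      exact ⟨x, Subtype.ext hx⟩
    rcases (hR.map ψ hψ).eq_bot_or_eq_top with h | h
    · intro x hx
      have := Subgroup.mem_bot.1 (h ▸ Subgroup.mem_map_of_mem ψ hx)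
      exact congrArg Subtype.val this
    · exfalso
      have hpt : IsPGroup 2 ↥(R.map ψ) := hp.map ψ
      rw [h] at hpt
      obtain ⟨n, hn⟩ := IsPGroup.iff_card.1 hpt
      rw [Subgroup.card_top, card_om] at hn
      have h5 : 5 ∣ 2 ^ n := hn ▸ by norm_num
      have := (Nat.Prime.dvd_of_dvd_pow (by norm_num) h5)
      norm_num at this
  · obtain ⟨m, hm, h8⟩ : ∃ m ∈ offWords, (codeTest m && pop 24 m == 8) = true := by decide +kernel
    obtain ⟨hc, hd, -⟩ := off_spec hm
    obtain ⟨σ, hσ⟩ := exists_smul_octad oct_octad (pts_octad h8)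
    refine ⟨proj (prmAut σ.2), ?_, ?_⟩
    · have e : proj (prmAut σ.2) * zOne * (proj (prmAut σ.2))⁻¹ = proj (sgnAut hc) := by
        rw [zOne, ← map_inv, ← map_mul, ← map_mul, tau, prmAut_conj]
        exact congrArg proj (sgnAut_congr hσ)
      have hmem : proj (prmAut σ.2) * zOne * (proj (prmAut σ.2))⁻¹ ∈ Subgroup.centralizer {zOne} := by
        rw [e]; exact (fixHom ⟨_, sgn_mem hc hd⟩).2
      refine ⟨hmem, fixHom_range ▸ ⟨⟨_, sgn_mem hc hd⟩, Subtype.ext e.symm⟩⟩
    · intro h
      have e : proj (sgnAut hc) = proj tau := by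
        refine Eq.trans ?_ h
        rw [zOne, ← map_inv, ← map_mul, ← map_mul, tau, prmAut_conj]
        exact (congrArg proj (sgnAut_congr hσ)).symm
      have hk : octPt 0 ∈ oct := (octPt_spec.1 _).2 ⟨0, rfl⟩
      rcases proj_eq e with e' | e'
      · have h1 := sgn_mem hc hd
        rw [e'] at h1
        have := congrArg (fun v : leechLattice => (v : GolayPt → ℤ) (octPt 0)) (h1 0)
        simp [tau, sgnAut_smul, eight, hk] at this
      · have hsub := congrArg Finset.card (monoAut_inj (hσ := M24.one_mem) (hτ := M24.one_mem)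
          (e'.trans (sgnAut_mul Spor.univ_mem_supports_golayCode oct_supports))).2
        rw [card_pts, eq_of_beq (Bool.and_eq_true_iff.1 h8).2] at hsub
        exact absurd hsub (by decide +kernel)

end CfsgLib.Spor.CoOneInv
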